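import Cfsg.Agent.Characters.Generalized
import Cfsg.Agent.CharactersDeep.ClassPairs
import Cfsg.Agent.PrincipalBlock.Kernel

/-!
# Products of two conjugates through character sums

For an element `x` of a finite group, an element `g` is a product of two conjugates of `x` as
soon as `∑ χ x ^ 2 * conj (χ g) / χ 1` does not vanish.
-/

set_option autoImplicit false
set_option linter.unusedSectionVars false
set_option linter.style.haveILetI false

namespace CfsgLib.ReeCover

open CfsgLib.Characters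
open scoped ComplexConjugate

universe u

variable {G : Type u} [Group G] [Fintype G]

/-- The degree of an irreducible character. -/
noncomputable def deg (χ : Cfsg.IrrCharacter G) : ℕ := Classical.choose (exists_degree_pos χ.2)

theorem deg_pos (χ : Cfsg.IrrCharacter G) : 0 < deg χ :=
  (Classical.choose_spec (exists_degree_pos χ.2)).1

theorem char_one (χ : Cfsg.IrrCharacter G) : (χ : G → ℂ) 1 = (deg χ : ℂ) :=
  (Classical.choose_spec (exists_degree_pos χ.2)).2

variable (G) in
/-- The principal character. -/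
noncomputable def triv : Cfsg.IrrCharacter G := ⟨fun _ => 1, isIrr_one⟩

theorem triv_apply (g : G) : ((triv G : Cfsg.IrrCharacter G) : G → ℂ) g = 1 := rfl

theorem deg_triv : deg (triv G) = 1 := by
  have := char_one (triv G)
  rw [triv_apply] at this
  exact_mod_cast this.symm

theorem char_inv (χ : Cfsg.IrrCharacter G) (g : G) :
    (χ : G → ℂ) g⁻¹ = conj ((χ : G → ℂ) g) :=
  character_inv (isCharacter_of_isIrr χ.2) g

theorem char_conj (χ : Cfsg.IrrCharacter G) (g h : G) :
    (χ : G → ℂ) (h * g * h⁻¹) = (χ : G → ℂ) g :=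
  isClassFunction_of_isIrr χ.2 g h

/-- Characters are real on an element conjugate to its inverse. -/
theorem char_real (χ : Cfsg.IrrCharacter G) {x : G} (h : IsConj x x⁻¹) :
    ((χ : G → ℂ) x).im = 0 := by
  have e := classFunction_isConj (isClassFunction_of_isIrr χ.2) h
  rw [char_inv] at e
  exact Complex.conj_eq_iff_im.1 e.symm

/-- Column orthogonality in absolute values. -/
theorem sum_norm_sq (g : G) : ∑ χ : Cfsg.IrrCharacter G, ‖(χ : G → ℂ) g‖ ^ 2 =
    (Nat.card (Subgroup.centralizer ({g} : Set G)) : ℝ) := by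
  have h := sum_irr_mul_conj_of_isConj (IsConj.refl g)
  simp only [Complex.mul_conj'] at h
  exact_mod_cast h

theorem sum_norm_sq_le (s : Finset (Cfsg.IrrCharacter G)) (g : G) :
    ∑ χ ∈ s, ‖(χ : G → ℂ) g‖ ^ 2 ≤ (Nat.card (Subgroup.centralizer ({g} : Set G)) : ℝ) := by
  rw [← sum_norm_sq g]
  exact Finset.sum_le_sum_of_subset_of_nonneg (Finset.subset_univ s) fun _ _ _ => by positivity

theorem norm_sq_le (χ : Cfsg.IrrCharacter G) (g : G) :
    ‖(χ : G → ℂ) g‖ ^ 2 ≤ (Nat.card (Subgroup.centralizer ({g} : Set G)) : ℝ) := by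
  simpa using sum_norm_sq_le {χ} g

theorem sum_norm_sq_erase [DecidableEq (Cfsg.IrrCharacter G)] (g : G) :
    ∑ χ ∈ Finset.univ.erase (triv G), ‖(χ : G → ℂ) g‖ ^ 2 =
      (Nat.card (Subgroup.centralizer ({g} : Set G)) : ℝ) - 1 := by
  rw [← sum_norm_sq g, ← Finset.sum_erase_add _ _ (Finset.mem_univ (triv G)), triv_apply]
  simp

/-- The character sum. -/
noncomputable def csum (x g : G) : ℂ :=
  ∑ χ : Cfsg.IrrCharacter G, (χ : G → ℂ) x * (χ : G → ℂ) x * conj ((χ : G → ℂ) g) / (χ : G → ℂ) 1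

theorem exists_prod_of_csum_ne {x g : G} (h : csum x g ≠ 0) :
    ∃ u v : G, g = (u * x * u⁻¹) * (v * x * v⁻¹) := by
  classical
  by_contra hno
  push Not at hno
  refine h ?_
  let A := CfsgLib.CharactersDeep.ClassPairs.classSet x
  let f : G → ℂ := fun y => (((A ×ˢ A).filter (fun p => p.1 * p.2 = y)).card : ℂ)
  have hzero : f g = 0 := by
    simp only [f, Nat.cast_eq_zero, Finset.card_eq_zero]
    refine Finset.filter_eq_empty_iff.2 fun p hp e => ?_
    simp only [Finset.mem_product, A, CharactersDeep.ClassPairs.mem_classSet] at hp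
    obtain ⟨u, hu⟩ := isConj_iff.1 hp.1
    obtain ⟨v, hv⟩ := isConj_iff.1 hp.2
    exact hno u v (by rw [hu, hv, e])
  have hf : Cfsg.IsClassFunction G f := by
    intro y c
    simp only [f]
    congr 1
    refine Finset.card_bij' (fun p _ => (c⁻¹ * p.1 * c, c⁻¹ * p.2 * c))
      (fun p _ => (c * p.1 * c⁻¹, c * p.2 * c⁻¹)) ?_ ?_ ?_ ?_
    · intro p hp
      simp only [Finset.mem_filter, Finset.mem_product, A] at hp ⊢
      refine ⟨⟨?_, ?_⟩, ?_⟩
      · simpa using (CharactersDeep.ClassPairs.conj_mem_classSet c⁻¹).2 hp.1.1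
      · simpa using (CharactersDeep.ClassPairs.conj_mem_classSet c⁻¹).2 hp.1.2
      · calc c⁻¹ * p.1 * c * (c⁻¹ * p.2 * c) = c⁻¹ * (p.1 * p.2) * c := by group
          _ = y := by rw [hp.2]; group
    · intro p hp
      simp only [Finset.mem_filter, Finset.mem_product, A] at hp ⊢
      refine ⟨⟨(CharactersDeep.ClassPairs.conj_mem_classSet c).2 hp.1.1,
        (CharactersDeep.ClassPairs.conj_mem_classSet c).2 hp.1.2⟩, ?_⟩
      calc c * p.1 * c⁻¹ * (c * p.2 * c⁻¹) = c * (p.1 * p.2) * c⁻¹ := by group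
        _ = c * y * c⁻¹ := by rw [hp.2]
    · intro p _; exact Prod.ext (by group) (by group)
    · intro p _; exact Prod.ext (by group) (by group)
  have hinner : ∀ χ : Cfsg.IrrCharacter G, Cfsg.classInner f (χ : G → ℂ) =
      (Nat.card G : ℂ)⁻¹ *
        conj ((A.card : ℂ) * (A.card : ℂ) * (χ : G → ℂ) x * (χ : G → ℂ) x / (χ : G → ℂ) 1) := by
    intro χ
    rw [← CharactersDeep.ClassPairs.sum_pairs_char χ.2, map_sum,
      ← Finset.sum_fiberwise (A ×ˢ A) (fun p => p.1 * p.2)]
    simp only [Cfsg.classInner, f]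
    congr 1
    refine Finset.sum_congr rfl fun y _ => ?_
    rw [Finset.sum_congr rfl (g := fun _ => conj ((χ : G → ℂ) y))
      (fun p hp => by rw [(Finset.mem_filter.1 hp).2]), Finset.sum_const, nsmul_eq_mul]
  have hexp := congrFun (classFunction_expansion hf) g
  rw [hzero, Finset.sum_apply] at hexp
  simp only [Pi.smul_apply, smul_eq_mul, hinner] at hexp
  have hA : (A.card : ℂ) ≠ 0 := by
    simp only [ne_eq, Nat.cast_eq_zero, Finset.card_eq_zero, A]
    exact Finset.ne_empty_of_mem (CharactersDeep.ClassPairs.mem_classSet.2 (IsConj.refl x))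
  have h2 : (Nat.card G : ℂ)⁻¹ * ((A.card : ℂ) * (A.card : ℂ)) * conj (csum x g) = 0 := by
    rw [csum, map_sum, Finset.mul_sum]
    refine Eq.trans (Finset.sum_congr rfl fun χ _ => ?_) hexp.symm
    simp only [map_mul, map_div₀, Complex.conj_natCast, Complex.conj_conj]
    ring
  simpa [hA, natCard_ne_zero] using h2

theorem csum_eq [DecidableEq (Cfsg.IrrCharacter G)] (x g : G) :
    csum x g = 1 + ∑ χ ∈ Finset.univ.erase (triv G),
      (χ : G → ℂ) x * (χ : G → ℂ) x * conj ((χ : G → ℂ) g) / (χ : G → ℂ) 1 := by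
  rw [csum, ← Finset.add_sum_erase _ _ (Finset.mem_univ (triv G))]
  simp [triv_apply]

/-- The criterion in absolute values. -/
theorem exists_prod_of_sum_lt [DecidableEq (Cfsg.IrrCharacter G)] {x g : G}
    (h : ∑ χ ∈ Finset.univ.erase (triv G),
      ‖(χ : G → ℂ) x‖ ^ 2 * ‖(χ : G → ℂ) g‖ / (deg χ : ℝ) < 1) :
    ∃ u v : G, g = (u * x * u⁻¹) * (v * x * v⁻¹) := by
  refine exists_prod_of_csum_ne fun h0 => ?_
  rw [csum_eq, add_eq_zero_iff_neg_eq] at h0
  have h1 := congrArg norm h0
  rw [norm_neg, norm_one] at h1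
  refine absurd h1 (ne_of_gt (lt_of_le_of_lt (norm_sum_le _ _) (lt_of_le_of_lt (le_of_eq ?_) h)))
  refine Finset.sum_congr rfl fun χ _ => ?_
  rw [char_one, norm_div, norm_mul, norm_mul, Complex.norm_conj, Complex.norm_natCast, sq]

/-- The criterion for a real element: a positive real part suffices. -/
theorem exists_prod_of_re_pos [DecidableEq (Cfsg.IrrCharacter G)] {x g : G}
    (hx : IsConj x x⁻¹)
    (h : 0 < 1 + ∑ χ ∈ Finset.univ.erase (triv G),
      ‖(χ : G → ℂ) x‖ ^ 2 * (((χ : G → ℂ) g).re / (deg χ : ℝ))) :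
    ∃ u v : G, g = (u * x * u⁻¹) * (v * x * v⁻¹) := by
  refine exists_prod_of_csum_ne fun h0 => absurd (congrArg Complex.re h0) (ne_of_gt ?_)
  rw [csum_eq, Complex.add_re, Complex.one_re, Complex.re_sum, Complex.zero_re]
  refine lt_of_lt_of_eq h ?_
  congr 1
  refine Finset.sum_congr rfl fun χ _ => ?_
  have e : conj ((χ : G → ℂ) x) = (χ : G → ℂ) x := Complex.conj_eq_iff_im.2 (char_real χ hx)
  have e2 : (χ : G → ℂ) x * (χ : G → ℂ) x = ((‖(χ : G → ℂ) x‖ ^ 2 : ℝ) : ℂ) := by
    nth_rw 2 [← e]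
    rw [Complex.mul_conj', Complex.ofReal_pow]
  rw [e2, char_one, mul_div_assoc, Complex.re_ofReal_mul, Complex.div_natCast_re, Complex.conj_re]

/-- The crude criterion. -/
theorem exists_prod_of_bound {x g : G} {D M N : ℝ} (hD : 0 < D)
    (hdeg : ∀ χ : Cfsg.IrrCharacter G, χ ≠ triv G → D ≤ deg χ)
    (hg : (Nat.card (Subgroup.centralizer ({g} : Set G)) : ℝ) ≤ N ^ 2) (hN : 0 ≤ N)
    (hx : (Nat.card (Subgroup.centralizer ({x} : Set G)) : ℝ) ≤ M) (h : M * N < D) :
    ∃ u v : G, g = (u * x * u⁻¹) * (v * x * v⁻¹) := by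
  classical
  refine exists_prod_of_sum_lt (lt_of_le_of_lt (Finset.sum_le_sum
    (g := fun χ : Cfsg.IrrCharacter G =>
    ‖(χ : G → ℂ) x‖ ^ 2 * (N / D)) fun χ hχ => ?_) ?_)
  · rw [mul_div_assoc]
    refine mul_le_mul_of_nonneg_left ?_ (by positivity)
    have hn : ‖(χ : G → ℂ) g‖ ≤ N := by
      have := (norm_sq_le χ g).trans hg
      exact (pow_le_pow_iff_left₀ (norm_nonneg _) hN two_ne_zero).1 this
    exact div_le_div₀ hN hn hD (hdeg χ (Finset.ne_of_mem_erase hχ))
  · rw [← Finset.sum_mul, sum_norm_sq_erase, ← mul_div_assoc, div_lt_one hD]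
    refine lt_of_le_of_lt ?_ h
    exact mul_le_mul_of_nonneg_right (by linarith) hN

end CfsgLib.ReeCover
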