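import Cfsg.Agent.ReeCover.Structure
import Cfsg.Agent.ReeDegree.Simple

/-!
Facts on the irreducible characters of the small Ree group read off from the Borel subgroup.
-/

set_option autoImplicit false
set_option linter.unusedSectionVars false
set_option linter.style.haveILetI false
set_option synthInstance.maxHeartbeats 200000

namespace CfsgLib.ReeCover

open Cfsg.Lie CfsgLib.Chevalley CfsgLib.ReeG2 CfsgLib.ReeG2Tori CfsgLib.Characters
open scoped MatrixGroups ComplexConjugate

variable {K : Type*} [Field K] [CharP K 3] [Finite K] {m : ℕ}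
  (hK : Nat.card K = 3 ^ (2 * m + 1))
include hK

set_option quotPrecheck false in
local notation "GR" => ↥(Tw K m)

variable [Fintype ↥(Tw K m)]

/-- The central elements of `U` as a homomorphism. -/
def zHom : Multiplicative K →* GR :=
  MonoidHom.mk' (fun c => wU m ((0, 0, c.toAdd) : K × K × K)) fun c d => by
    rw [wU_mul hK]
    simp [theta_zero]

/-- The derived subgroup of `U` as a homomorphism. -/
def dHom : Multiplicative (K × K) →* GR :=
  MonoidHom.mk' (fun c => wU m ((0, c.toAdd.1, c.toAdd.2) : K × K × K)) fun c d => by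
    rw [wU_mul hK]
    simp [theta_zero]

omit hK in
/-- A nontrivial linear character of a finite abelian group sums to zero. -/
theorem sum_hom_eq_zero {A : Type*} [CommGroup A] [Fintype A] {φ : A →* ℂˣ} {a : A}
    (h : φ a ≠ 1) : ∑ x : A, (φ x : ℂ) = 0 := by
  have e : ∑ x : A, (φ x : ℂ) = (φ a : ℂ) * ∑ x : A, (φ x : ℂ) := by
    conv_lhs => rw [← Equiv.sum_comp (Equiv.mulLeft a) fun x : A => (φ x : ℂ)]
    rw [Finset.mul_sum]
    simp
  exact (mul_eq_zero.1 (by linear_combination -e : ((φ a : ℂ) - 1) * _ = 0)).resolve_left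
    (sub_ne_zero.2 fun e => h (Units.ext e))

theorem char_b_shift (χ : Cfsg.IrrCharacter GR) {b : K} (hb : b ≠ 0) (c : K) :
    (χ : GR → ℂ) (wU m (0, b, c)) = (χ : GR → ℂ) (wU m (0, b, 0)) := by
  refine classFunction_isConj (isClassFunction_of_isIrr χ.2) (IsConj.symm (isConj_iff.2
    ⟨wU m (c / b, 0, 0), mul_inv_eq_iff_eq_mul.2 ?_⟩))
  rw [wU_mul hK, wU_mul hK]
  congr 1
  refine Prod.ext ?_ (Prod.ext ?_ ?_) <;> simp [theta_zero]
  field_simp
  ring

theorem char_central (χ : Cfsg.IrrCharacter GR) {c : K} (hc : c ≠ 0) :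
    (χ : GR → ℂ) (wU m (0, 0, c)) = (χ : GR → ℂ) (wU m (0, 0, 1)) :=
  classFunction_isConj (isClassFunction_of_isIrr χ.2) (isConj_central hK hc).symm

/-- An irreducible character restricted to the centre of `U`: the degree is `a + q (q - 1) j`
and the value on the non-identity elements is `a - q j`. -/
theorem exists_decomp (χ : Cfsg.IrrCharacter GR) :
    ∃ a j : ℕ, deg χ = a + qq m * (qq m - 1) * j ∧
      (χ : GR → ℂ) (wU m (0, 0, 1)) = (a : ℂ) - (qq m : ℂ) * j ∧
      ∀ b : K, b ≠ 0 → -(a : ℝ) / ((qq m : ℝ) - 1) ≤ ((χ : GR → ℂ) (wU m (0, b, 0))).re := by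
  classical
  haveI := Fintype.ofFinite K
  have hq : (Fintype.card K : ℂ) = (qq m : ℂ) := by rw [← Nat.card_eq_fintype_card, hK]
  have hq1 : (1 : ℝ) < (qq m : ℝ) := by exact_mod_cast one_lt_qq (m := m)
  have hq0 : (qq m : ℂ) ≠ 0 := by
    simp only [ne_eq, Nat.cast_eq_zero]
    exact (Nat.pos_of_ne_zero (by positivity)).ne'
  have hchar := isCharacter_of_isIrr χ.2
  set v := (χ : GR → ℂ) (wU m (0, 0, 1)) with hv
  -- on the centre
  obtain ⟨a, ha⟩ := classInner_characters (isCharacter_comp (zHom hK) hchar)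
    (isCharacter_one (G := Multiplicative K))
  have hz : ∑ c : K, (χ : GR → ℂ) (wU m (0, 0, c)) = (deg χ : ℂ) + ((qq m : ℂ) - 1) * v := by
    rw [← Finset.add_sum_erase _ _ (Finset.mem_univ (0 : K)),
      Finset.sum_congr rfl (g := fun _ => v) fun c hc => char_central hK χ (Finset.ne_of_mem_erase hc),
      Finset.sum_const, Finset.card_erase_of_mem (Finset.mem_univ _), Finset.card_univ,
      nsmul_eq_mul, Nat.cast_sub Fintype.card_pos, hq, ← char_one χ,
      show ((0, 0, 0) : K × K × K) = 0 from rfl, wU_zero]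
    simp
  have ha' : (qq m : ℂ) * a = (deg χ : ℂ) + ((qq m : ℂ) - 1) * v := by
    simp only [Cfsg.classInner, map_one, mul_one] at ha
    rw [← hz, ← ha, Nat.card_eq_fintype_card, Fintype.card_multiplicative, hq,
      mul_inv_cancel_left₀ hq0]
    exact (Fintype.sum_equiv Multiplicative.ofAdd _ _ fun c => rfl).symm
  -- on the derived subgroup
  have hb : ∀ b : K, ∑ c : K, (χ : GR → ℂ) (wU m (0, b, c)) =
      if b = 0 then (qq m : ℂ) * a else (qq m : ℂ) * (χ : GR → ℂ) (wU m (0, b, 0)) := by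
    intro b
    split_ifs with h
    · rw [h, hz, ha']
    · rw [Finset.sum_congr rfl (g := fun _ => (χ : GR → ℂ) (wU m (0, b, 0)))
        fun c _ => char_b_shift hK χ h c, Finset.sum_const, Finset.card_univ, nsmul_eq_mul, hq]
  obtain ⟨lam, hlam⟩ := CommGroup.exists_apply_ne_one_of_hasEnoughRootsOfUnity (Multiplicative K) ℂ
    (a := Multiplicative.ofAdd (1 : K)) (fun e => one_ne_zero (congrArg Multiplicative.toAdd e))
  let lam2 : Multiplicative (K × K) →* ℂˣ :=
    lam.comp (AddMonoidHom.toMultiplicative (AddMonoidHom.snd K K))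
  obtain ⟨j, hj⟩ := classInner_characters (isCharacter_comp (dHom hK) hchar)
    (isCharacter_of_isIrr (isIrr_linChar lam2))
  have hj' : (qq m : ℂ) * qq m * j = (deg χ : ℂ) - v := by
    simp only [Cfsg.classInner] at hj
    rw [Nat.card_eq_fintype_card, Fintype.card_multiplicative, Fintype.card_prod, Nat.cast_mul, hq]
      at hj
    rw [← hj, mul_inv_cancel_left₀ (mul_ne_zero hq0 hq0),
      ← Fintype.sum_equiv Multiplicative.ofAdd (fun p : K × K => (χ : GR → ℂ) (wU m (0, p.1, p.2)) *
        conj (lam (Multiplicative.ofAdd p.2) : ℂ)) _ fun p => rfl, Fintype.sum_prod_type,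
      Finset.sum_eq_single (0 : K)]
    · have hl : ∑ c : K, conj (lam (Multiplicative.ofAdd c) : ℂ) = 0 := by
        rw [← map_sum, ← Fintype.sum_equiv Multiplicative.ofAdd.symm
          (fun x : Multiplicative K => (lam x : ℂ)) _ fun x => rfl, sum_hom_eq_zero hlam, map_zero]
      rw [← Finset.add_sum_erase _ _ (Finset.mem_univ (0 : K)),
        Finset.sum_congr rfl (g := fun c => v * conj (lam (Multiplicative.ofAdd c) : ℂ)) fun c hc => by
          rw [char_central hK χ (Finset.ne_of_mem_erase hc)], ← Finset.mul_sum,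
        Finset.sum_erase_eq_sub (Finset.mem_univ _), hl,
        show ((0, 0, 0) : K × K × K) = 0 from rfl, wU_zero, char_one χ, ofAdd_zero, map_one,
        Units.val_one, map_one]
      ring
    · intro b _ hb0
      rw [Finset.sum_congr rfl (g := fun c => (χ : GR → ℂ) (wU m (0, b, 0)) *
        conj (lam (Multiplicative.ofAdd c) : ℂ)) fun c _ => by rw [char_b_shift hK χ hb0],
        ← Finset.mul_sum, ← map_sum, ← Fintype.sum_equiv Multiplicative.ofAdd.symm
          (fun x : Multiplicative K => (lam x : ℂ)) _ fun x => rfl, sum_hom_eq_zero hlam,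
        map_zero, mul_zero]
    · exact fun h => absurd (Finset.mem_univ _) h
  have hdeg : deg χ = a + qq m * (qq m - 1) * j := by
    refine Nat.cast_injective (R := ℂ) (mul_left_cancel₀ hq0 ?_)
    rw [Nat.cast_add, Nat.cast_mul, Nat.cast_mul, Nat.cast_sub (one_lt_qq (m := m)).le, Nat.cast_one]
    linear_combination -ha' - ((qq m : ℂ) - 1) * hj'
  refine ⟨a, j, hdeg, ?_, fun b₀ hb₀ => ?_⟩
  · have e := congrArg (fun n : ℕ => (n : ℂ)) hdeg
    simp only [Nat.cast_add, Nat.cast_mul, Nat.cast_sub (one_lt_qq (m := m)).le, Nat.cast_one] at e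
    linear_combination e + hj'
  · obtain ⟨n, hn⟩ := classInner_characters (isCharacter_comp (dHom hK) hchar)
      (isCharacter_one (G := Multiplicative (K × K)))
    have hn' : (qq m : ℂ) * qq m * n =
        ∑ b : K, ∑ c : K, (χ : GR → ℂ) (wU m (0, b, c)) := by
      simp only [Cfsg.classInner, map_one, mul_one] at hn
      rw [Nat.card_eq_fintype_card, Fintype.card_multiplicative, Fintype.card_prod, Nat.cast_mul, hq]
        at hn
      rw [← hn, mul_inv_cancel_left₀ (mul_ne_zero hq0 hq0), ← Fintype.sum_prod_type']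
      exact (Fintype.sum_equiv Multiplicative.ofAdd _ _ fun p => rfl).symm
    rw [Finset.sum_congr rfl fun b _ => hb b,
      ← Finset.add_sum_erase _ _ (Finset.mem_univ (0 : K)), if_pos rfl] at hn'
    have hre : ∀ b : K, b ≠ 0 → ((χ : GR → ℂ) (wU m (0, b, 0))).re =
        ((χ : GR → ℂ) (wU m ((0, 1, 0) : K × K × K))).re := by
      intro b hb
      rcases isConj_bType hK hb (0 : K) with h | h
      · rw [classFunction_isConj (isClassFunction_of_isIrr χ.2) h]
      · rw [← classFunction_isConj (isClassFunction_of_isIrr χ.2) h, char_inv, Complex.conj_re]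
    have hr := congrArg Complex.re hn'
    rw [Complex.add_re, Complex.re_sum, Finset.sum_congr rfl
      (g := fun _ => (qq m : ℝ) * ((χ : GR → ℂ) (wU m (0, b₀, 0))).re) fun b hb' => by
        rw [if_neg (Finset.ne_of_mem_erase hb'), ← Complex.ofReal_natCast, Complex.re_ofReal_mul,
          hre b (Finset.ne_of_mem_erase hb'), hre b₀ hb₀]] at hr
    rw [Finset.sum_const, Finset.card_erase_of_mem (Finset.mem_univ _), Finset.card_univ,
      nsmul_eq_mul, Nat.cast_sub Fintype.card_pos, ← Nat.card_eq_fintype_card, hK,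
      show 3 ^ (2 * m + 1) = qq m from rfl, Nat.cast_one, ← Nat.cast_mul, ← Nat.cast_mul,
      ← Nat.cast_mul, Complex.natCast_re, Complex.natCast_re, Nat.cast_mul, Nat.cast_mul,
      Nat.cast_mul] at hr
    rw [div_le_iff₀ (by linarith)]
    have hpos : (0 : ℝ) ≤ (qq m : ℝ) * qq m * n := by positivity
    have hq0' : (0 : ℝ) < qq m := by linarith
    refine le_of_mul_le_mul_left ?_ hq0'
    linarith

theorem eq_triv_of_j {χ : Cfsg.IrrCharacter GR} (hm : 1 ≤ m)
    (h : (χ : GR → ℂ) (wU m (0, 0, 1)) = (χ : GR → ℂ) 1) : χ = triv GR := by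
  haveI := ReeDegree.isSimpleGroup hK hm
  rcases Subgroup.Normal.eq_bot_or_eq_top (PrincipalBlock.charKer_normal χ) with e | e
  · have hmem : wU m ((0, 0, 1) : K × K × K) ∈ PrincipalBlock.charKer χ := h
    rw [e, Subgroup.mem_bot, wU_eq_one_iff] at hmem
    exact absurd (congrArg (fun x : K × K × K => x.2.2) hmem) one_ne_zero
  · refine Subtype.ext (funext fun g => ?_)
    have h2 := PrincipalBlock.eq_trivChar_of_charKer_eq_top e
    rw [h2]
    rfl

/-- The degree of a nontrivial irreducible character. -/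
theorem le_deg (hm : 1 ≤ m) {χ : Cfsg.IrrCharacter GR} (h : χ ≠ triv GR) :
    qq m * (qq m - 1) ≤ deg χ := by
  obtain ⟨a, j, hd, hv, -⟩ := exists_decomp hK χ
  rcases Nat.eq_zero_or_pos j with rfl | hj
  · refine absurd (eq_triv_of_j hK hm ?_) h
    rw [hv, char_one, hd]
    simp
  · rw [hd]
    exact le_trans (Nat.le_mul_of_pos_right _ hj) (Nat.le_add_left _ _)

/-! ### The permutation character on the cosets of the Borel subgroup -/

/-- The number of fixed cosets of the Borel subgroup. -/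
noncomputable def piChar (g : GR) : ℂ := (Nat.card (MulAction.fixedBy (GR ⧸ Bor K m) g) : ℂ)

theorem piChar_eq : piChar (K := K) (m := m) = Cfsg.indFun (Bor K m) (fun _ => 1) := by
  funext g
  rw [piChar, card_fixedBy_eq_indFun (GR ⧸ Bor K m) ((1 : GR) : GR ⧸ Bor K m) g]
  rw [MulAction.stabilizer_quotient]

theorem piChar_inner (f : GR → ℂ) (hf : Cfsg.IsClassFunction GR f) [Fintype (Bor K m)] :
    Cfsg.classInner (piChar (K := K) (m := m)) f = Cfsg.classInner (fun _ : Bor K m => (1 : ℂ)) fun b => f b := by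
  rw [piChar_eq hK, classInner_indFun _ _ hf]

theorem piChar_norm : Cfsg.classInner (piChar (K := K) (m := m)) (piChar (K := K) (m := m)) = 2 := by
  classical
  letI : Fintype (Bor K m) := Fintype.ofFinite _
  rw [piChar_inner hK _ (piChar_eq hK ▸ isClassFunction_indFun _ _), Cfsg.classInner]
  haveI : ∀ b : Bor K m, Fintype (MulAction.fixedBy (GR ⧸ Bor K m) b) := fun _ => Fintype.ofFinite _
  haveI : Fintype (Quotient (MulAction.orbitRel (Bor K m) (GR ⧸ Bor K m))) := Fintype.ofFinite _
  have h := MulAction.sum_card_fixedBy_eq_card_orbits_mul_card_group (Bor K m) (GR ⧸ Bor K m)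
  have h2 : Fintype.card (Quotient (MulAction.orbitRel (Bor K m) (GR ⧸ Bor K m))) = 2 := by
    rw [← Nat.card_eq_fintype_card, Nat.card_eq_two_iff]
    refine ⟨Quotient.mk'' ((1 : GR) : GR ⧸ Bor K m), Quotient.mk'' ((n0 m : GR) : GR ⧸ Bor K m), fun e => ?_, ?_⟩
    · obtain ⟨b, hb⟩ := Quotient.exact' e
      have hb' : (((b : GR) * n0 m : GR) : GR ⧸ Bor K m) = ((1 : GR) : GR ⧸ Bor K m) := hb
      rw [QuotientGroup.eq, mul_one] at hb'
      refine n0_not_mem (K := K) (m := m) ?_
      have h3 := mul_mem (inv_mem b.2) (inv_mem hb')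
      rwa [inv_inv, inv_mul_cancel_left] at h3
    · refine Set.eq_univ_iff_forall.2 fun x => ?_
      induction x using Quotient.inductionOn' with
      | h x =>
        induction x using QuotientGroup.induction_on with
        | _ g =>
          rcases cases_Bor hK g with hg | ⟨-, p, B, p', rfl⟩
          · refine Or.inl (Quotient.sound' ⟨⟨g, hg⟩, ?_⟩)
            show (((g : GR) * 1 : GR) : GR ⧸ Bor K m) = _
            rw [mul_one]
          · refine Or.inr (Quotient.sound' ⟨⟨wU m p * hT hK B, mul_mem (Usub_le (wU_mem p))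
              (hT_mem hK B)⟩, ?_⟩)
            show ((wU m p * hT hK B * n0 m : GR) : GR ⧸ Bor K m) = _
            rw [QuotientGroup.eq, inv_mul_cancel_left]
            exact Usub_le (wU_mem p')
  rw [h2] at h
  have h3 : ∀ b : Bor K m, Nat.card (MulAction.fixedBy (GR ⧸ Bor K m) (b : GR)) =
      Fintype.card (MulAction.fixedBy (GR ⧸ Bor K m) b) := fun b => by
    rw [← Nat.card_eq_fintype_card]
    rfl
  simp only [piChar, one_mul, Complex.conj_natCast, h3]
  rw [← Nat.cast_sum, h, Nat.card_eq_fintype_card, Nat.cast_mul]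
  field_simp
  norm_num

theorem piChar_one_inner : Cfsg.classInner (piChar (K := K) (m := m)) (fun _ => 1) = 1 := by
  classical
  letI : Fintype (Bor K m) := Fintype.ofFinite _
  rw [piChar_inner hK _ fun _ _ => rfl]
  exact classInner_isIrr_self isIrr_one

/-- The Steinberg character. -/
theorem exists_steinberg :
    ∃ St : Cfsg.IrrCharacter GR, deg St = qq m ^ 3 ∧ St ≠ triv GR ∧
      ∀ g, (St : GR → ℂ) g = piChar (K := K) (m := m) g - 1 := by
  have hgen : Cfsg.IsGeneralizedCharacter GR (piChar (K := K) (m := m) - fun _ => 1) :=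
    isGen_sub (piChar_eq hK ▸ isGen_indFun _ isGen_one) isGen_one
  have h1 : piChar (K := K) (m := m) 1 = ((qq m : ℂ) ^ 3 + 1) := by
    rw [piChar_eq hK, indFun_one, index_Bor hK, mul_one]
    push_cast; rfl
  have hnorm : Cfsg.classInner (piChar (K := K) (m := m) - fun _ => 1) (piChar (K := K) (m := m) - fun _ => 1) = 1 := by
    have h10 : Cfsg.classInner (fun _ => 1) (piChar (K := K) (m := m)) = 1 := by
      rw [classInner_conj_symm, piChar_one_inner hK, map_one]
    rw [classInner_sub_left, classInner_sub_right, classInner_sub_right, piChar_norm hK,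
      piChar_one_inner hK, h10, classInner_isIrr_self isIrr_one]
    ring
  have hirr := isIrr_of_gen_norm_one hgen hnorm (by
    rw [Pi.sub_apply, h1, add_sub_cancel_right]
    norm_cast
    positivity)
  refine ⟨⟨_, hirr⟩, ?_, fun e => ?_, fun g => rfl⟩
  · have := char_one (⟨_, hirr⟩ : Cfsg.IrrCharacter GR)
    simp only [Pi.sub_apply, h1, add_sub_cancel_right] at this
    exact_mod_cast this.symm
  · have h2 := congrArg (fun χ : Cfsg.IrrCharacter GR => (χ : GR → ℂ) 1) e
    simp only [Pi.sub_apply, h1, add_sub_cancel_right, triv_apply] at h2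
    have h3 : qq m ^ 3 = 1 := by exact_mod_cast h2
    have := one_lt_qq (m := m)
    have := Nat.one_lt_pow (n := 3) (by norm_num) this
    omega

theorem piChar_eq_zero {g : GR} (h : ∀ x : GR, x⁻¹ * g * x ∉ Bor K m) : piChar (K := K) (m := m) g = 0 := by
  rw [piChar_eq hK]
  exact indFun_eq_zero_of_forall _ _ g h

theorem one_le_piChar {g : GR} (h : g ∈ Bor K m) : 1 ≤ (piChar (K := K) (m := m) g).re := by
  rw [piChar, Complex.natCast_re, Nat.one_le_cast]
  refine Nat.card_pos_iff.2 ⟨⟨⟨((1 : GR) : GR ⧸ Bor K m), ?_⟩⟩, inferInstance⟩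
  show ((g * 1 : GR) : GR ⧸ Bor K m) = ((1 : GR) : GR ⧸ Bor K m)
  rw [QuotientGroup.eq, mul_one, mul_one]
  exact inv_mem h

/-- At least three characters agreeing on the Borel subgroup vanish on the regular elements of the
split torus and have degree divisible by half its order. -/
theorem split_of_same (S : Finset (Cfsg.IrrCharacter GR)) (hS : 3 ≤ S.card)
    (hsame : ∀ χ ∈ S, ∀ ψ ∈ S, ∀ b ∈ Bor K m, (χ : GR → ℂ) b = (ψ : GR → ℂ) b)
    {χ₀ : Cfsg.IrrCharacter GR} (hχ₀ : χ₀ ∈ S) : (qq m - 1) / 2 ∣ deg χ₀ := by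
  classical
  haveI := Fintype.ofFinite K
  letI : Fintype (Bor K m) := Fintype.ofFinite _
  let e := borEquiv (K := K) (m := m) hK
  have hmk : ∀ x, ((e x : Bor K m) : GR) = wU m x.1 * hT hK x.2 := fun _ => rfl
  let β : Bor K m →* Kˣ := MonoidHom.mk' (fun b => (e.symm b).2) fun a b => by
    obtain ⟨x, rfl⟩ := e.surjective a
    obtain ⟨y, rfl⟩ := e.surjective b
    obtain ⟨r, hr⟩ := (mem_Usub_iff hK).1
      (mul_mem (wU_mem (m := m) x.1) (hT_conj_mem hK x.2 (wU_mem y.1)))
    have h : e x * e y = e (r, x.2 * y.2) := Subtype.ext (by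
      rw [Subgroup.coe_mul, hmk, hmk, hmk, hr, map_mul]
      group)
    simp [h]
  have hβ : ∀ x, β (e x) = x.2 := fun x => by simp [β]
  haveI : NeZero (Monoid.exponent Kˣ : ℂ) :=
    ⟨Nat.cast_ne_zero.2 Monoid.exponent_ne_zero_of_finite⟩
  haveI : Finite (Kˣ →* ℂˣ) := Finite.of_injective _ (linearCharEquiv (G := Kˣ)).injective
  letI : Fintype (Kˣ →* ℂˣ) := Fintype.ofFinite _
  -- the multiplicities vanish
  have hmult : ∀ μ : Kˣ →* ℂˣ,
      Cfsg.classInner (fun b : Bor K m => (μ (β b) : ℂ)) (fun b => (χ₀ : GR → ℂ) b) = 0 := by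
    intro μ
    set f : Bor K m → ℂ := fun b => (μ (β b) : ℂ) with hf
    have hfgen : Cfsg.IsGeneralizedCharacter (Bor K m) f :=
      isGen_of_isIrr (isIrr_linChar (μ.comp β))
    obtain ⟨c, hc⟩ := classInner_gen hfgen (isGen_restrict (Bor K m) (isGen_of_isIrr χ₀.2))
    set Φ := Cfsg.indFun (Bor K m) f with hΦ
    have hpt : ∀ g, ‖Φ g‖ ≤ (piChar (K := K) (m := m) g).re := by
      intro g
      rw [piChar_eq hK, hΦ]
      simp only [Cfsg.indFun]
      rw [Finset.mul_sum, Finset.mul_sum, Complex.re_sum]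
      refine (norm_sum_le _ _).trans (Finset.sum_le_sum fun x _ => le_of_eq ?_)
      by_cases hx : x⁻¹ * g * x ∈ Bor K m
      · rw [extendByZero_of_mem _ _ hx, extendByZero_of_mem _ _ hx, norm_mul, norm_inv,
          Complex.norm_natCast, hf]
        simp only [mul_one]
        rw [show ‖(μ (β ⟨_, hx⟩) : ℂ)‖ = 1 from Complex.norm_eq_one_of_pow_eq_one
          (by rw [← Units.val_pow_eq_pow_val, ← map_pow, ← map_pow, pow_card_eq_one, map_one, map_one,
            Units.val_one]) Fintype.card_ne_zero]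
        simp
      · rw [extendByZero_of_not_mem _ _ hx, extendByZero_of_not_mem _ _ hx]
        simp
    have hnorm : (Cfsg.classInner Φ Φ).re ≤ 2 := by
      have h2 := congrArg Complex.re (piChar_norm hK)
      simp only [Cfsg.classInner] at h2 ⊢
      rw [← Complex.ofReal_natCast, ← Complex.ofReal_inv, Complex.re_ofReal_mul, Complex.re_sum] at h2 ⊢
      rw [show (2 : ℝ) = (2 : ℂ).re by simp, ← h2]
      refine mul_le_mul_of_nonneg_left (Finset.sum_le_sum fun g _ => ?_) (by positivity)
      rw [Complex.mul_conj', Complex.mul_conj', ← Complex.ofReal_pow, ← Complex.ofReal_pow,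
        Complex.ofReal_re, Complex.ofReal_re]
      refine pow_le_pow_left₀ (norm_nonneg _) ((hpt g).trans ?_) 2
      exact Complex.re_le_norm _
    have hall : ∀ χ ∈ S, Cfsg.classInner Φ (χ : GR → ℂ) = (c : ℂ) := by
      intro χ hχ
      rw [hΦ, classInner_indFun _ _ (isClassFunction_of_isIrr χ.2), ← hc]
      congr 1
      funext b
      exact hsame χ hχ χ₀ hχ₀ b b.2
    rw [classInner_eq_sum (isClassFunction_indFun _ _), Complex.re_sum] at hnorm
    have hle : (S.card : ℝ) * (c : ℝ) ^ 2 ≤ 2 := by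
      refine le_trans ?_ hnorm
      refine le_trans (le_of_eq ?_) (Finset.sum_le_sum_of_subset_of_nonneg (Finset.subset_univ S)
        fun χ _ _ => ?_)
      · rw [Finset.sum_congr rfl (g := fun _ => (c : ℝ) ^ 2) fun χ hχ => ?_, Finset.sum_const,
          nsmul_eq_mul]
        rw [hall χ hχ, map_intCast, sq, ← Int.cast_mul, Complex.intCast_re, Int.cast_mul]
      · rw [Complex.mul_conj', ← Complex.ofReal_pow, Complex.ofReal_re]
        positivity
    have hc0 : c = 0 := by
      by_contra h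
      have h1 : (1 : ℝ) ≤ (c : ℝ) ^ 2 := by
        exact_mod_cast (show (1 : ℤ) ≤ c ^ 2 from lt_of_le_of_ne (sq_nonneg c) (Ne.symm (pow_ne_zero 2 h)))
      have h2 : (3 : ℝ) ≤ S.card := by exact_mod_cast hS
      nlinarith
    rw [hc, hc0, Int.cast_zero]
  -- the averages over the cosets of `U`
  let F : Kˣ → ℂ := fun B => ∑ p : K × K × K, (χ₀ : GR → ℂ) (wU m p * hT hK B)
  have hF : ∀ μ : Kˣ →* ℂˣ, ∑ B : Kˣ, (μ B : ℂ) * conj (F B) = 0 := by
    intro μ
    have h := hmult μ
    simp only [Cfsg.classInner, mul_eq_zero, inv_eq_zero, Nat.cast_eq_zero] at h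
    rw [← h.resolve_left (Nat.card_pos.ne'), ← e.sum_comp, Fintype.sum_prod_type_right]
    refine Finset.sum_congr rfl fun B _ => ?_
    simp only [F, map_sum, Finset.mul_sum, hβ, hmk]
  have hF0 : ∀ C, F C = 0 := by
    intro C
    have hsumμ : ∀ B : Kˣ, B ≠ 1 → ∑ μ : Kˣ →* ℂˣ, (μ B : ℂ) = 0 := by
      intro B hB
      obtain ⟨φ, hφ⟩ := CommGroup.exists_apply_ne_one_of_hasEnoughRootsOfUnity Kˣ ℂ hB
      have e : ∑ μ : Kˣ →* ℂˣ, (μ B : ℂ) = (φ B : ℂ) * ∑ μ : Kˣ →* ℂˣ, (μ B : ℂ) := by
        conv_lhs => rw [← Equiv.sum_comp (Equiv.mulLeft φ) fun μ : Kˣ →* ℂˣ => (μ B : ℂ)]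
        rw [Finset.mul_sum]
        simp
      exact (mul_eq_zero.1 (by linear_combination -e : ((φ B : ℂ) - 1) * _ = 0)).resolve_left
        (sub_ne_zero.2 fun e => hφ (Units.ext e))
    have h0 : ∑ μ : Kˣ →* ℂˣ, ∑ B : Kˣ, (μ C⁻¹ : ℂ) * ((μ B : ℂ) * conj (F B)) = 0 :=
      Finset.sum_eq_zero fun μ _ => by rw [← Finset.mul_sum, hF μ, mul_zero]
    rw [Finset.sum_comm, Finset.sum_eq_single C] at h0
    · simp only [← mul_assoc, ← Units.val_mul, ← map_mul, inv_mul_cancel, map_one, Units.val_one,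
        one_mul, Finset.sum_const, Finset.card_univ, nsmul_eq_mul, mul_eq_zero, Nat.cast_eq_zero,
        Fintype.card_ne_zero, false_or, map_eq_zero] at h0
      exact h0
    · intro B _ hB
      simp only [← mul_assoc, ← Units.val_mul, ← map_mul]
      rw [← Finset.sum_mul, hsumμ _ (fun e => hB (by rw [eq_comm, ← inv_mul_eq_one]; exact e)), zero_mul]
    · exact fun h => absurd (Finset.mem_univ _) h
  have hreg : ∀ B : Kˣ, B ≠ 1 → B ≠ -1 → (χ₀ : GR → ℂ) (hT hK B) = 0 := by
    intro B h1 h2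
    have hcst : ∀ p, (χ₀ : GR → ℂ) (wU m p * hT hK B) = (χ₀ : GR → ℂ) (hT hK B) := fun p => by
      obtain ⟨p', hp'⟩ := exists_conj_hT hK h1 h2 p
      rw [← hp', char_conj]
    have h := hF0 B
    simp only [F, hcst, Finset.sum_const, Finset.card_univ, nsmul_eq_mul, mul_eq_zero,
      Nat.cast_eq_zero, Fintype.card_ne_zero, false_or] at h
    exact h
  -- the squares
  let Q : Subgroup Kˣ := (powMonoidHom 2 : Kˣ →* Kˣ).range
  letI : Fintype Q := Fintype.ofFinite _
  have hne : (1 : Kˣ) ≠ -1 := fun e => ReeG2Sylow.neg_one_ne_one (K := K) e.symm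
  have hQ : ∀ B ∈ Q, B ≠ -1 := by
    rintro B ⟨C, rfl⟩ e
    refine neg_sq_false hK (c := (C : K)) ?_
    have := congrArg (fun u : Kˣ => (u : K)) e
    simpa [powMonoidHom_apply, pow_two] using this
  have hQcard : Nat.card Q = (qq m - 1) / 2 := by
    have hker : Nat.card (powMonoidHom 2 : Kˣ →* Kˣ).ker = 2 := by
      refine Nat.card_eq_two_iff.2 ⟨⟨1, one_mem _⟩, ⟨-1, by simp [MonoidHom.mem_ker]⟩,
        fun e => hne (congrArg Subtype.val e), Set.eq_univ_iff_forall.2 fun x => ?_⟩
      have hx : ((x : Kˣ) : K) * (x : Kˣ) = 1 := by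
        rw [← Units.val_mul, ← pow_two, show (x : Kˣ) ^ 2 = 1 from MonoidHom.mem_ker.1 x.2, Units.val_one]
      rcases mul_self_eq_one_iff.1 hx with h | h
      · exact Or.inl (Subtype.ext (Units.ext h))
      · exact Or.inr (Subtype.ext (Units.ext (by simpa using h)))
    have h := (powMonoidHom 2 : Kˣ →* Kˣ).ker.card_mul_index
    rw [hker, Subgroup.index_ker, Nat.card_units, hK] at h
    show Nat.card (powMonoidHom 2 : Kˣ →* Kˣ).range = (3 ^ (2 * m + 1) - 1) / 2
    omega
  obtain ⟨n, hn⟩ := classInner_characters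
    (isCharacter_comp ((hT hK).comp Q.subtype) (isCharacter_of_isIrr χ₀.2))
    (isCharacter_one (G := Q))
  rw [← hQcard]
  refine ⟨n, Nat.cast_injective (R := ℂ) ?_⟩
  simp only [Cfsg.classInner, map_one, mul_one] at hn
  rw [Nat.cast_mul, ← hn, mul_inv_cancel_left₀ (Nat.cast_ne_zero.2 Nat.card_pos.ne'),
    Finset.sum_eq_single (1 : Q)]
  · simp [char_one]
  · intro B _ hB
    exact hreg _ (fun e => hB (Subtype.ext e)) (hQ _ B.2)
  · exact fun h => absurd (Finset.mem_univ _) h

end CfsgLib.ReeCover
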