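import Mathlib

/-!
Lower bounds for the degrees of exceptional characters, from congruences.

`A = 3 ^ (m + 1)`, so `A * A = 3 * q`; `n = q ± A + 1` is the order of the torus and `6 k + 1 = n`.
-/

set_option autoImplicit false

namespace CfsgLib.ReeCover.Degree

theorem abs_value_le {q A k n v : ℤ} (hq : 81 * A ≤ 3 * q ∧ 81 ≤ A ∨ q = 243 ∧ A = 27)
    (hn : n = q - A + 1 ∨ n = q + A + 1) (hk : n = 6 * k + 1) (hv : k * v ^ 2 ≤ q ^ 3) :
    3 * |v| ≤ 8 * q := by
  have hA : 9 * A ≤ q ∧ 0 ≤ A := by omega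
  have hk' : 8 * q ≤ 54 * k := by omega
  have h1 : 8 * q * (v ^ 2) ≤ 54 * k * v ^ 2 := mul_le_mul_of_nonneg_right hk' (sq_nonneg v)
  have hq0 : 0 < q := by omega
  have h2 : 4 * v ^ 2 ≤ 27 * q ^ 2 := le_of_mul_le_mul_left (by nlinarith) hq0
  have h3 : (3 * |v|) ^ 2 ≤ (8 * q) ^ 2 := by
    rw [mul_pow, sq_abs]
    nlinarith [sq_nonneg q]
  exact (pow_le_pow_iff_left₀ (by positivity) (by omega) two_ne_zero).1 h3

/-- For `q ≥ 243` the degree is at least `3 q²`. -/
theorem big {q A k n d v ε : ℤ} (hq : 81 * A ≤ 3 * q ∧ 81 ≤ A ∨ q = 243 ∧ A = 27)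
    (hA : A * A = 3 * q) (hn : n = q - A + 1 ∨ n = q + A + 1) (hk : n = 6 * k + 1)
    (hε : ε = 1 ∨ ε = -1) (hn' : n ∣ d - 6 * ε) (h2 : q - 1 ∣ 2 * d) (hz : q ^ 2 ∣ d - v)
    (hv : k * v ^ 2 ≤ q ^ 3) (hd : q * (q - 1) ≤ d) : 3 * q ^ 2 ≤ d := by
  by_contra hlt
  push Not at hlt
  have hv3 := abs_value_le hq hn hk hv
  have hv1 : v ≤ |v| := le_abs_self v
  have hv2 : -v ≤ |v| := neg_le_abs v
  have hq0 : 243 ≤ q := by omega
  obtain ⟨j, hj⟩ := hz
  have hj1 : 1 ≤ j := by
    by_contra h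
    have : q ^ 2 * j ≤ 0 := mul_nonpos_of_nonneg_of_nonpos (sq_nonneg q) (by omega)
    nlinarith
  have hj3 : j ≤ 3 := by
    by_contra h
    have : q ^ 2 * 4 ≤ q ^ 2 * j := mul_le_mul_of_nonneg_left (by omega) (sq_nonneg q)
    nlinarith
  obtain ⟨p, hp⟩ := h2
  set i := p - 2 * j * (q + 1) with hi
  have hvi : 2 * (j + v) = (q - 1) * i := by rw [hi]; linear_combination hp - 2 * hj
  have hi5 : i ≤ 5 ∧ -5 ≤ i := by
    constructor <;> by_contra h
    · have : (q - 1) * 6 ≤ (q - 1) * i := mul_le_mul_of_nonneg_left (by omega) (by omega)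
      omega
    · have : (q - 1) * i ≤ (q - 1) * (-6) := mul_le_mul_of_nonneg_left (by omega) (by omega)
      omega
  obtain ⟨hi5, hi5'⟩ := hi5
  obtain ⟨r, hr⟩ := hn'
  rcases hq with ⟨hq1, hA81⟩ | ⟨hq243, hA27⟩
  swap
  · subst hq243 hA27
    rcases hn with rfl | rfl <;> norm_num at hr hvi hj <;>
      interval_cases j <;> interval_cases i <;> omega
  have hq2 : 27 * A ≤ q := by omega
  rcases hn with hn | hn
  · -- `q ≡ A - 1`
    have hdvd : n ∣ (2 * j + i) * A - 6 * j - 2 * i - 12 * ε :=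
      ⟨2 * r - (2 * j * (q + A + 2) + i), by
        have e : (2 * j + i) * A - 6 * j - 2 * i - 12 * ε =
            2 * (d - 6 * ε) - (2 * j * (q + A + 2) + i) * n := by
          rw [hn]
          linear_combination -2 * hj - hvi + (-2 * j) * hA
        rw [e, hr]
        ring⟩
    have hle : |(2 * j + i) * A - 6 * j - 2 * i - 12 * ε| < n := by
      have h1 : (2 * j + i) * A ≤ 11 * A := mul_le_mul_of_nonneg_right (by omega) (by omega)
      have h2 : -11 * A ≤ (2 * j + i) * A := mul_le_mul_of_nonneg_right (by omega) (by omega)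
      rw [abs_lt]
      constructor <;> omega
    have h0 : (2 * j + i) * A - 6 * j - 2 * i - 12 * ε = 0 :=
      Int.eq_zero_of_abs_lt_dvd hdvd hle
    have h00 : 2 * j + i = 0 := by
      by_contra h
      rcases lt_or_gt_of_ne h with h' | h'
      · have : (2 * j + i) * A ≤ (-1) * A := mul_le_mul_of_nonneg_right (by omega) (by omega)
        omega
      · have : 1 * A ≤ (2 * j + i) * A := mul_le_mul_of_nonneg_right (by omega) (by omega)
        omega
    rw [h00, zero_mul] at h0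
    omega
  · -- `q ≡ -A - 1`
    have hdvd : n ∣ (2 * j + i) * A + 6 * j + 2 * i + 12 * ε :=
      ⟨2 * j * (q - A + 2) + i - 2 * r, by
        have e : (2 * j + i) * A + 6 * j + 2 * i + 12 * ε =
            (2 * j * (q - A + 2) + i) * n - 2 * (d - 6 * ε) := by
          rw [hn]
          linear_combination 2 * hj + hvi + (2 * j) * hA
        rw [e, hr]
        ring⟩
    have hle : |(2 * j + i) * A + 6 * j + 2 * i + 12 * ε| < n := by
      have h1 : (2 * j + i) * A ≤ 11 * A := mul_le_mul_of_nonneg_right (by omega) (by omega)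
      have h2 : -11 * A ≤ (2 * j + i) * A := mul_le_mul_of_nonneg_right (by omega) (by omega)
      rw [abs_lt]
      constructor <;> omega
    have h0 := Int.eq_zero_of_abs_lt_dvd hdvd hle
    have h00 : 2 * j + i = 0 := by
      by_contra h
      rcases lt_or_gt_of_ne h with h' | h'
      · have : (2 * j + i) * A ≤ (-1) * A := mul_le_mul_of_nonneg_right (by omega) (by omega)
        omega
      · have : 1 * A ≤ (2 * j + i) * A := mul_le_mul_of_nonneg_right (by omega) (by omega)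
        omega
    rw [h00, zero_mul] at h0
    omega

/-- The torus of order `37` in the group over `27` elements. -/
theorem small_plus {d v ε c : ℤ} (hε : ε = 1 ∨ ε = -1) (hc : c = 0 ∨ c = ε)
    (hn : (37 : ℤ) ∣ d - 6 * ε - c) (h13 : (26 : ℤ) ∣ 2 * d) (hz : (729 : ℤ) ∣ d - v)
    (hv : 6 * v ^ 2 ≤ 19683) (hd : 702 ≤ d) : 3100 ≤ d := by
  have h1 : v ≤ 57 := by nlinarith
  have h2 : -57 ≤ v := by nlinarith
  obtain ⟨j, hj⟩ := hz
  by_contra h
  have hj0 : 1 ≤ j ∧ j ≤ 4 := by omega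
  obtain ⟨hj0, hj4⟩ := hj0
  rcases hε with rfl | rfl <;> rcases hc with rfl | rfl <;> interval_cases j <;> omega

/-- The torus of order `19` in the group over `27` elements. -/
theorem small_minus {d v ε c e : ℤ} (hε : ε = 1 ∨ ε = -1) (hc : c = 0 ∨ c = ε)
    (hn : (19 : ℤ) ∣ d - 6 * ε - c) (hz : (729 : ℤ) ∣ d - v) (hv : 3 * v ^ 2 ≤ 19683)
    (he : d < 3100 → (37 : ℤ) ∣ d - e) (he2 : d < 3100 → e ^ 2 ≤ 4) (hd : 702 ≤ d) :
    2200 ≤ d := by
  have h1 : v ≤ 81 := by nlinarith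
  have h2 : -81 ≤ v := by nlinarith
  obtain ⟨j, hj⟩ := hz
  by_contra h
  have hj0 : 1 ≤ j ∧ j ≤ 3 := by omega
  obtain ⟨hj0, hj4⟩ := hj0
  have he' := he (by omega)
  have he4 := he2 (by omega)
  have h3 : e ≤ 2 := by nlinarith
  have h4 : -2 ≤ e := by nlinarith
  rcases hε with rfl | rfl <;> rcases hc with rfl | rfl <;> interval_cases j <;> interval_cases e <;>
    omega

end CfsgLib.ReeCover.Degree
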