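import Cfsg.Agent.Characters.Exceptional
import Cfsg.Agent.ReeCover.CharBasics

/-!
# Exceptional characters of an abelian T.I. subgroup of index six in its normaliser
-/

set_option autoImplicit false
set_option linter.unusedSectionVars false
set_option linter.style.haveILetI false

namespace CfsgLib.ReeCover

open CfsgLib.Characters
open scoped ComplexConjugate

universe u

variable {G : Type u} [Group G] [Fintype G]

/-- An abelian subgroup, the centraliser of each of its non-identity elements, of index six in its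
normaliser. -/
structure IsSix (T : Subgroup G) : Prop where
  comm : ∀ a ∈ T, ∀ b ∈ T, a * b = b * a
  cent : ∀ t ∈ T, t ≠ 1 → Subgroup.centralizer ({t} : Set G) = T
  card_norm : Nat.card ↥(Subgroup.normalizer (T : Set G)) = 6 * Nat.card T

namespace IsSix

variable {T : Subgroup G} (hT : IsSix T)
include hT

theorem mem_norm {t x : G} (ht : t ∈ T) (ht1 : t ≠ 1) (hx : x⁻¹ * t * x ∈ T) :
    x ∈ Subgroup.normalizer (T : Set G) := by
  have hne : x⁻¹ * t * x ≠ 1 := fun e => ht1 (by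
    have h2 := congrArg (fun y => x * y * x⁻¹) e
    simpa [mul_assoc] using h2)
  refine Subgroup.mem_normalizer_iff.2 fun y => ?_
  conv_lhs => rw [← hT.cent _ hx hne]
  conv_rhs => rw [← hT.cent t ht ht1]
  simp only [Subgroup.mem_centralizer_singleton_iff]
  constructor
  · intro h
    calc x * y * x⁻¹ * t = x * (y * (x⁻¹ * t * x)) * x⁻¹ := by group
      _ = x * (x⁻¹ * t * x * y) * x⁻¹ := by rw [h]
      _ = t * (x * y * x⁻¹) := by group
  · intro h
    calc y * (x⁻¹ * t * x) = x⁻¹ * (x * y * x⁻¹ * t) * x := by group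
      _ = x⁻¹ * (t * (x * y * x⁻¹)) * x := by rw [h]
      _ = x⁻¹ * t * x * y := by group

end IsSix

open Classical in
/-- The exceptional characters and what is used of them. -/
theorem exists_exceptional_six {T : Subgroup G} (hT : IsSix T) (h13 : 13 ≤ Nat.card T) :
    ∃ (S : Finset (Cfsg.IrrCharacter G)) (ε c : ℤ), (ε = 1 ∨ ε = -1) ∧
      Nat.card T = 6 * S.card + 1 ∧
      (∀ χ ∈ S, ∀ ψ ∈ S, ∀ g : G, g = 1 ∨ (∀ x : G, x⁻¹ * g * x ∉ T) →
        (χ : G → ℂ) g = (ψ : G → ℂ) g) ∧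
      (∀ χ ∈ S, ∀ e : ℂ, ¬ ∀ t ∈ T, t ≠ 1 → (χ : G → ℂ) t = e) ∧
      (∀ χ ∉ S, ∃ e : ℤ, (∀ t ∈ T, t ≠ 1 → (χ : G → ℂ) t = e) ∧
        (Nat.card T : ℤ) ∣ (deg χ : ℤ) - e) ∧
      (∀ χ ∈ S, (Nat.card T : ℤ) ∣ (deg χ : ℤ) - 6 * ε - c) ∧
      ∀ t ∈ T, t ≠ 1 →
        ∑ χ ∈ Sᶜ, ‖(χ : G → ℂ) t‖ ^ 2 + (S.card : ℝ) * (c : ℝ) ^ 2 - 2 * ε * c = 6 := by
  letI : CommGroup T :=
    { (inferInstance : Group T) with mul_comm := fun a b => Subtype.ext (hT.comm a a.2 b b.2) }
  set n := Nat.card T with hn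
  have hn0 : (n : ℂ) ≠ 0 := Nat.cast_ne_zero.2 (by omega)
  haveI : NeZero (Monoid.exponent T : ℂ) :=
    ⟨Nat.cast_ne_zero.2 Monoid.exponent_ne_zero_of_finite⟩
  haveI : Finite (T →* ℂˣ) := Finite.of_injective _ (linearCharEquiv (G := T)).injective
  letI : Fintype (T →* ℂˣ) := Fintype.ofFinite _
  have hcardHom : Nat.card (T →* ℂˣ) = n :=
    CommGroup.card_monoidHom_of_hasEnoughRootsOfUnity T ℂ
  -- sums over homomorphisms
  have hsum : ∀ s : T, ∑ θ : T →* ℂˣ, (θ s : ℂ) = if s = 1 then (n : ℂ) else 0 := by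
    intro s
    split_ifs with h
    · rw [h]
      simp only [map_one, Units.val_one, Finset.sum_const, Finset.card_univ, nsmul_eq_mul, mul_one]
      rw [← Nat.card_eq_fintype_card, hcardHom]
    · obtain ⟨φ, hφ⟩ := CommGroup.exists_apply_ne_one_of_hasEnoughRootsOfUnity T ℂ h
      have e : ∑ θ : T →* ℂˣ, (θ s : ℂ) = (φ s : ℂ) * ∑ θ : T →* ℂˣ, (θ s : ℂ) := by
        conv_lhs => rw [← Equiv.sum_comp (Equiv.mulLeft φ) fun θ : T →* ℂˣ => (θ s : ℂ)]
        rw [Finset.mul_sum]
        simp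
      have hφ' : (φ s : ℂ) ≠ 1 := fun e => hφ (Units.ext e)
      exact (mul_eq_zero.1 (by linear_combination -e : ((φ s : ℂ) - 1) * _ = 0)).resolve_left
        (sub_ne_zero.2 hφ')
  have hsum1 : ∀ s : T, ∑ θ ∈ Finset.univ.filter (fun θ : T →* ℂˣ => θ ≠ 1), (θ s : ℂ) =
      (if s = 1 then (n : ℂ) else 0) - 1 := by
    intro s
    rw [Finset.filter_ne', ← hsum s, ← Finset.sum_erase_add _ _ (Finset.mem_univ (1 : T →* ℂˣ))]
    simp
  have hconj : ∀ (θ : T →* ℂˣ) (s : T), conj (θ s : ℂ) = (θ s⁻¹ : ℂ) := fun θ s =>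
    (character_inv (isCharacter_of_isIrr (isIrr_linChar θ)) s).symm
  have horth : ∀ θ φ : T →* ℂˣ,
      Cfsg.classInner (fun s => (θ s : ℂ)) (fun s => (φ s : ℂ)) = if θ = φ then 1 else 0 := by
    intro θ φ
    rw [classInner_irr ⟨_, isIrr_linChar θ⟩ ⟨_, isIrr_linChar φ⟩]
    refine if_congr ⟨fun h => MonoidHom.ext fun s => Units.ext ?_, fun h => by rw [h]⟩ rfl rfl
    exact congrFun (congrArg Subtype.val h) s
  have hexp : ∀ (f : T → ℂ) (t : T),
      f t = ∑ θ : T →* ℂˣ, Cfsg.classInner f (fun s => (θ s : ℂ)) * (θ t : ℂ) := by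
    intro f t
    simp only [Cfsg.classInner, Finset.mul_sum, Finset.sum_mul]
    rw [Finset.sum_comm]
    have : ∀ s : T, ∑ θ : T →* ℂˣ, (Nat.card T : ℂ)⁻¹ * (f s * conj (θ s : ℂ)) * (θ t : ℂ) =
        (n : ℂ)⁻¹ * f s * (if s⁻¹ * t = 1 then (n : ℂ) else 0) := fun s => by
      rw [← hsum, Finset.mul_sum]
      refine Finset.sum_congr rfl fun θ _ => ?_
      rw [hconj, map_mul, Units.val_mul, ← hn]
      ring
    rw [Finset.sum_congr rfl fun s _ => this s, Finset.sum_eq_single t]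
    · rw [inv_mul_cancel, if_pos rfl]
      field_simp
    · intro s _ hs
      rw [if_neg fun e => hs (inv_mul_eq_one.1 e), mul_zero]
    · exact fun h => absurd (Finset.mem_univ t) h
  -- the action of the normaliser
  set N := Subgroup.normalizer (T : Set G) with hN
  have hcjmem : ∀ (x : N) (t : T), (x : G)⁻¹ * t * x ∈ T := fun x t => by
    have := (Subgroup.mem_normalizer_iff.1 (inv_mem x.2) t).1 t.2
    rwa [inv_inv] at this
  let cj : N → T →* T := fun x => MonoidHom.mk' (fun t => ⟨(x : G)⁻¹ * t * x, hcjmem x t⟩)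
    fun a b => Subtype.ext (by simp [mul_assoc])
  have hcj : ∀ (x : N) (t : T), ((cj x t : T) : G) = (x : G)⁻¹ * t * x := fun _ _ => rfl
  have hcj1 : ∀ t : T, cj 1 t = t := fun t => Subtype.ext (by simp [hcj])
  have hcjm : ∀ (x y : N) (t : T), cj (x * y) t = cj y (cj x t) := fun x y t =>
    Subtype.ext (by simp [hcj, mul_assoc])
  have hcjT : ∀ (x : N), (x : G) ∈ T → ∀ t : T, cj x t = t := fun x hx t => Subtype.ext (by
    rw [hcj, mul_assoc, hT.comm _ t.2 _ hx, inv_mul_cancel_left])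
  have hcjfix : ∀ (x : N) (t : T), t ≠ 1 → cj x t = t → (x : G) ∈ T := by
    intro x t ht h
    rw [← hT.cent t t.2 fun e => ht (Subtype.ext e)]
    refine Subgroup.mem_centralizer_singleton_iff.2 ?_
    have h2 : (x : G)⁻¹ * t * x = t := by rw [← hcj, h]
    calc (x : G) * t = x * ((x : G)⁻¹ * t * x) := by rw [h2]
      _ = t * x := by group
  let act : (T →* ℂˣ) → N → (T →* ℂˣ) := fun φ x => φ.comp (cj x)
  have hact1 : ∀ φ, act φ 1 = φ := fun φ => MonoidHom.ext fun t => by simp [act, hcj1]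
  have hactm : ∀ φ x y, act (act φ y) x = act φ (x * y) := fun φ x y => MonoidHom.ext fun t => by
    simp [act, hcjm]
  have hfree : ∀ (φ : T →* ℂˣ), φ ≠ 1 → ∀ x, act φ x = φ → (x : G) ∈ T := by
    intro φ hφ x hx
    by_contra hxT
    let f : T → T := fun t => cj x t * t⁻¹
    have hinj : Function.Injective f := by
      intro a b h
      have h2 : cj x (a * b⁻¹) = a * b⁻¹ := by
        rw [map_mul, map_inv]
        simp only [f] at h
        rw [mul_inv_eq_iff_eq_mul] at h
        rw [h]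
        calc cj x b * b⁻¹ * a * (cj x b)⁻¹ = (cj x b * (cj x b)⁻¹) * (b⁻¹ * a) := by ac_rfl
          _ = a * b⁻¹ := by rw [mul_inv_cancel, one_mul, mul_comm]
      by_contra hab
      exact hxT (hcjfix x _ (fun e => hab (mul_inv_eq_one.1 e)) h2)
    refine hφ (MonoidHom.ext fun t => ?_)
    obtain ⟨s, rfl⟩ := (Finite.injective_iff_surjective.1 hinj) t
    have h3 : φ (cj x s) = φ s := DFunLike.congr_fun hx s
    simp [f, h3]
  -- orbits
  let R : Setoid {φ : T →* ℂˣ // φ ≠ 1} :=
    { r := fun φ ψ => ∃ x : N, act φ.1 x = ψ.1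
      iseqv := by
        refine ⟨fun φ => ⟨1, hact1 _⟩, ?_, ?_⟩
        · rintro φ ψ ⟨x, hx⟩
          exact ⟨x⁻¹, by rw [← hx, hactm, inv_mul_cancel, hact1]⟩
        · rintro φ ψ ζ ⟨x, hx⟩ ⟨y, hy⟩
          exact ⟨y * x, by rw [← hy, ← hx, hactm]⟩ }
  let ι := Quotient R
  haveI : Fintype ι := Fintype.ofFinite ι
  haveI : DecidableEq ι := Classical.decEq ι
  let fib : ι → Finset {φ : T →* ℂˣ // φ ≠ 1} := fun i =>
    Finset.univ.filter fun φ => Quotient.mk R φ = i
  let eta : ι → T → ℂ := fun i t => ∑ ψ ∈ fib i, (ψ.1 t : ℂ)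
  have hactne : ∀ (φ : {φ : T →* ℂˣ // φ ≠ 1}) (x : N), act φ.1 x ≠ 1 := fun φ x h => φ.2 (by
    have h2 := congrArg (fun ψ => act ψ x⁻¹) h
    rw [hactm, inv_mul_cancel, hact1] at h2
    rw [h2]
    exact MonoidHom.ext fun t => rfl)
  have heta : ∀ (φ : {φ : T →* ℂˣ // φ ≠ 1}) (t : T),
      ∑ x : N, (φ.1 (cj x t) : ℂ) = (n : ℂ) * eta (Quotient.mk R φ) t := by
    intro φ t
    let m : N → {φ : T →* ℂˣ // φ ≠ 1} := fun x => ⟨act φ.1 x, hactne φ x⟩
    rw [← Finset.sum_fiberwise_of_maps_to (g := m) (t := fib (Quotient.mk R φ))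
      (fun x _ => by
        simp only [fib, Finset.mem_filter, Finset.mem_univ, true_and]
        exact (Quotient.sound (show R φ (m x) from ⟨x, rfl⟩)).symm), Finset.mul_sum]
    refine Finset.sum_congr rfl fun ψ hψ => ?_
    simp only [fib, Finset.mem_filter, Finset.mem_univ, true_and] at hψ
    obtain ⟨x₀, hx₀⟩ := (Quotient.exact hψ.symm : R φ ψ)
    rw [Finset.sum_congr rfl (g := fun _ => (ψ.1 t : ℂ)) fun x hx => ?_, Finset.sum_const,
      nsmul_eq_mul]
    · congr 1
      rw [hn, Nat.card_eq_fintype_card, ← Finset.card_univ (α := T)]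
      congr 1
      refine Eq.symm (Finset.card_bij (fun (s : T) _ =>
        (⟨(s : G), Subgroup.le_normalizer s.2⟩ : N) * x₀) ?_ ?_ ?_)
      · intro s _
        refine Finset.mem_filter.2 ⟨Finset.mem_univ _, Subtype.ext ?_⟩
        show act φ.1 _ = ψ.1
        rw [← hx₀, ← hactm]
        exact MonoidHom.ext fun u => by simp [act, hcjT]
      · intro s _ s' _ h
        exact Subtype.ext (congrArg (fun y : N => (y : G)) (mul_right_cancel h) :)
      · intro x hx
        have h2 : act φ.1 x = ψ.1 := congrArg Subtype.val (Finset.mem_filter.1 hx).2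
        have h3 : act ψ.1 (x * x₀⁻¹) = ψ.1 := by
          conv_lhs => rw [← hx₀, hactm, inv_mul_cancel_right]
          exact h2
        have h4 := hfree _ ψ.2 _ h3
        exact ⟨⟨_, h4⟩, Finset.mem_univ _, Subtype.ext (by simp)⟩
    · exact congrArg (fun ζ : {φ : T →* ℂˣ // φ ≠ 1} => (ζ.1 t : ℂ)) (Finset.mem_filter.1 hx).2
  have heta1 : ∀ i, eta i 1 = 6 := by
    intro i
    obtain ⟨φ, rfl⟩ := Quotient.exists_rep i
    refine mul_left_cancel₀ hn0 ?_
    rw [← heta φ 1]
    simp only [map_one, Units.val_one, Finset.sum_const, Finset.card_univ, nsmul_eq_mul, mul_one]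
    rw [← Nat.card_eq_fintype_card, hN, hT.card_norm, ← hn]
    push_cast; ring
  have hetasum : ∀ t : T, ∑ i, eta i t = (if t = 1 then (n : ℂ) else 0) - 1 := by
    intro t
    simp only [eta, fib]
    rw [Finset.sum_fiberwise Finset.univ (fun φ => Quotient.mk R φ)
      (fun φ : {φ : T →* ℂˣ // φ ≠ 1} => (φ.1 t : ℂ)), ← hsum1 t]
    exact (Finset.sum_subtype (Finset.univ.filter fun θ : T →* ℂˣ => θ ≠ 1) (fun θ => by simp)
      fun θ : T →* ℂˣ => (θ t : ℂ)).symm
  have hk : n = 6 * Fintype.card ι + 1 := by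
    have h := hetasum 1
    simp only [heta1, Finset.sum_const, Finset.card_univ, nsmul_eq_mul, if_pos] at h
    exact_mod_cast (by linear_combination -h : (n : ℂ) = 6 * (Fintype.card ι : ℂ) + 1)
  have hιne : Nonempty ι := Fintype.card_pos_iff.1 (by omega)
  obtain ⟨i₀⟩ := hιne
  let rep : ι → {φ : T →* ℂˣ // φ ≠ 1} := fun i => i.out
  have hrep : ∀ i, Quotient.mk R (rep i) = i := fun i => Quotient.out_eq i
  let lin : (T →* ℂˣ) → T → ℂ := fun θ s => (θ s : ℂ)
  let τ : ι → G → ℂ := fun i => Cfsg.indFun T (lin (rep i).1 - lin (rep i₀).1)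
  -- the values of `τ`
  have hext : ∀ (f : T → ℂ) (t : T), t ≠ 1 →
      Cfsg.indFun T f t = (n : ℂ)⁻¹ * ∑ x : N, f (cj x t) := by
    intro f t ht
    simp only [Cfsg.indFun]
    rw [← hn]
    congr 1
    rw [← Finset.sum_filter_add_sum_filter_not Finset.univ (fun x : G => x ∈ N),
      Finset.sum_eq_zero (s := Finset.univ.filter fun x : G => ¬ x ∈ N) fun x hx => ?_, add_zero,
      Finset.sum_subtype (p := (· ∈ N)) _ (by simp)]
    · exact Finset.sum_congr rfl fun x _ => extendByZero_of_mem T f (hcjmem x t)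
    · exact extendByZero_of_not_mem T f fun h =>
        (Finset.mem_filter.1 hx).2 (hT.mem_norm t.2 (fun e => ht (Subtype.ext e)) h)
  have hτval : ∀ i (t : T), τ i t = eta i t - eta i₀ t := by
    intro i t
    by_cases ht : t = 1
    · subst ht
      simp [τ, indFun_one, lin, heta1]
    · simp only [τ]
      rw [hext _ t ht]
      simp only [Pi.sub_apply, lin, Finset.sum_sub_distrib, heta, hrep]
      field_simp
  have hτout : ∀ i g, (∀ x : G, x⁻¹ * g * x ∉ T) → τ i g = 0 := fun i g h =>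
    indFun_eq_zero_of_forall T _ g h
  have hτone : ∀ i, τ i 1 = 0 := fun i => by simp [τ, indFun_one, lin]
  have hτgen : ∀ i, Cfsg.IsGeneralizedCharacter G (τ i) := fun i =>
    isGen_indFun T (isGen_sub (isGen_of_isIrr (isIrr_linChar _)) (isGen_of_isIrr (isIrr_linChar _)))
  have hieta : ∀ (θ : {φ : T →* ℂˣ // φ ≠ 1}) (i : ι),
      Cfsg.classInner (lin θ.1) (eta i) = if Quotient.mk R θ = i then 1 else 0 := by
    intro θ i
    rw [show eta i = ∑ ψ ∈ fib i, lin ψ.1 by funext t; simp [eta, lin, Finset.sum_apply],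
      classInner_sum_right, Finset.sum_congr rfl fun ψ _ => horth θ.1 ψ.1]
    by_cases h : Quotient.mk R θ = i
    · rw [if_pos h, Finset.sum_eq_single θ (fun ψ _ hne => if_neg fun e => hne (Subtype.ext e.symm))
        (fun hn => absurd (by simp [fib, h]) hn), if_pos rfl]
    · rw [if_neg h]
      refine Finset.sum_eq_zero fun ψ hψ => if_neg fun e => h ?_
      rw [Subtype.ext e]
      simpa [fib] using hψ
  have hgram : ∀ i j, i ≠ i₀ → j ≠ i₀ →
      Cfsg.classInner (τ i) (τ j) = if i = j then 2 else 1 := by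
    intro i j hi hj
    simp only [τ]
    rw [classInner_indFun T _ (isClassFunction_indFun _ _)]
    have e : (fun h : T => Cfsg.indFun T (lin (rep j).1 - lin (rep i₀).1) h) = eta j - eta i₀ :=
      funext fun t => hτval j t
    rw [e, classInner_sub_left, classInner_sub_right, classInner_sub_right, hieta, hieta, hieta,
      hieta, hrep, hrep, if_neg hi, if_neg (Ne.symm hj), if_pos rfl]
    split_ifs <;> norm_num
  obtain ⟨ε', hε', μ, hμ, hμinj, hτμ⟩ := exists_exceptional i₀ τ
    (by simp [τ, indFun_zero]) hτgen hτone hgram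
  obtain ⟨ε, hε, hεc⟩ : ∃ ε : ℤ, (ε = 1 ∨ ε = -1) ∧ ε' = (ε : ℂ) := by
    rcases hε' with h | h
    · exact ⟨1, Or.inl rfl, by rw [h]; norm_num⟩
    · exact ⟨-1, Or.inr rfl, by rw [h]; norm_num⟩
  have hεε : (ε : ℂ) * ε = 1 := by rcases hε with h | h <;> rw [h] <;> norm_num
  let μ' : ι → Cfsg.IrrCharacter G := fun i => ⟨μ i, hμ i⟩
  have hμ' : Function.Injective μ' := fun i j h => hμinj (congrArg Subtype.val h)
  -- multiplicities on `T`
  let res : Cfsg.IrrCharacter G → T → ℂ := fun χ t => (χ : G → ℂ) t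
  choose M hM using fun (χ : Cfsg.IrrCharacter G) (θ : T →* ℂˣ) =>
    classInner_gen (isGen_restrict T (isGen_of_isIrr χ.2)) (isGen_of_isIrr (isIrr_linChar θ))
  have hMinv : ∀ χ θ x, M χ (act θ x) = M χ θ := by
    intro χ θ x
    have hb : Function.Bijective (cj x) := Finite.injective_iff_bijective.1 fun a b h => Subtype.ext (by
      have := congrArg (fun y : T => (x : G) * y * (x : G)⁻¹) h
      simpa [hcj, mul_assoc] using this)
    refine Int.cast_injective (α := ℂ) ?_
    rw [← hM, ← hM]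
    simp only [Cfsg.classInner]
    congr 1
    refine Fintype.sum_bijective (cj x) hb _ _ fun t => ?_
    show (χ : G → ℂ) t * conj (θ (cj x t) : ℂ) = (χ : G → ℂ) (cj x t) * conj (θ (cj x t) : ℂ)
    rw [hcj, show (χ : G → ℂ) ((x : G)⁻¹ * t * x) = (χ : G → ℂ) t by
      simpa using char_conj χ (t : G) (x : G)⁻¹]
  have hMdiff : ∀ χ i, (M χ (rep i).1 : ℂ) - M χ (rep i₀).1 =
      (ε : ℂ) * ((if χ = μ' i then 1 else 0) - (if χ = μ' i₀ then 1 else 0)) := by
    intro χ i
    have h := congrArg (fun f => Cfsg.classInner f (χ : G → ℂ)) (hτμ i)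
    simp only [τ] at h
    rw [classInner_indFun T _ (isClassFunction_of_isIrr χ.2), classInner_sub_left,
      classInner_smul_left, classInner_sub_left, hεc] at h
    have hsym : ∀ θ, Cfsg.classInner (lin θ) (fun t : T => (χ : G → ℂ) t) = (M χ θ : ℂ) := fun θ => by
      rw [classInner_conj_symm, hM, map_intCast]
    rw [hsym, hsym] at h
    rw [h, show μ i = ((μ' i : Cfsg.IrrCharacter G) : G → ℂ) from rfl,
      show μ i₀ = ((μ' i₀ : Cfsg.IrrCharacter G) : G → ℂ) from rfl, classInner_irr, classInner_irr]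
    simp only [eq_comm]
  let b : Cfsg.IrrCharacter G → ℤ := fun χ => M χ (rep i₀).1 - ε * (if χ = μ' i₀ then 1 else 0)
  have hMval : ∀ χ (θ : {φ : T →* ℂˣ // φ ≠ 1}),
      M χ θ.1 = b χ + ε * (if χ = μ' (Quotient.mk R θ) then 1 else 0) := by
    intro χ θ
    obtain ⟨x, hx⟩ := (Quotient.exact (hrep (Quotient.mk R θ)) : R (rep (Quotient.mk R θ)) θ)
    rw [← hx, hMinv]
    refine Int.cast_injective (α := ℂ) ?_
    have := hMdiff χ (Quotient.mk R θ)
    simp only [b]
    push_cast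
    linear_combination this
  let a : Cfsg.IrrCharacter G → ℤ := fun χ => M χ 1 - b χ
  have hval : ∀ (χ : Cfsg.IrrCharacter G) (t : T), (χ : G → ℂ) t = (a χ : ℂ) + (b χ : ℂ) * (if t = 1 then (n : ℂ) else 0) +
      (ε : ℂ) * ∑ i, (if χ = μ' i then eta i t else 0) := by
    intro χ t
    have h := hexp (res χ) t
    simp only [res] at h
    rw [h, Finset.sum_congr rfl fun θ _ => by rw [hM χ θ],
      ← Finset.sum_erase_add _ _ (Finset.mem_univ (1 : T →* ℂˣ)), ← Finset.filter_ne',
      Finset.sum_subtype (Finset.univ.filter fun θ : T →* ℂˣ => θ ≠ 1) (p := fun θ => θ ≠ 1) (fun θ => by simp),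
      Finset.sum_congr rfl fun θ _ => by rw [hMval χ θ]]
    simp only [MonoidHom.one_apply, Units.val_one, mul_one, a]
    push_cast
    simp only [add_mul, Finset.sum_add_distrib, ← Finset.mul_sum, mul_assoc]
    have h1 : ∑ θ : {φ : T →* ℂˣ // φ ≠ 1}, (θ.1 t : ℂ) = (if t = 1 then (n : ℂ) else 0) - 1 := by
      rw [← hsum1 t]
      exact (Finset.sum_subtype _ (fun θ => by simp) fun θ : T →* ℂˣ => (θ t : ℂ)).symm
    have h2 : ∑ θ : {φ : T →* ℂˣ // φ ≠ 1}, (if χ = μ' (Quotient.mk R θ) then (1 : ℂ) else 0) * (θ.1 t : ℂ) =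
        ∑ i, (if χ = μ' i then eta i t else 0) := by
      rw [← Finset.sum_fiberwise Finset.univ (fun φ => Quotient.mk R φ)]
      refine Finset.sum_congr rfl fun i _ => ?_
      simp only [eta, fib]
      rw [Finset.sum_congr rfl (g := fun θ => if χ = μ' i then (θ.1 t : ℂ) else 0) fun θ hθ => by
        rw [(Finset.mem_filter.1 hθ).2, ite_mul, one_mul, zero_mul]]
      split_ifs <;> simp
    rw [h1, h2]
    ring
  have hT1 : ((1 : T) : G) = 1 := rfl
  have hdeg : ∀ χ, (deg χ : ℂ) = (a χ : ℂ) + (b χ : ℂ) * n + (ε : ℂ) * ∑ i, (if χ = μ' i then 6 else 0) := by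
    intro χ
    have h := hval χ 1
    rw [hT1, char_one, if_pos rfl] at h
    simpa [heta1] using h
  set S : Finset (Cfsg.IrrCharacter G) := Finset.univ.image μ' with hS
  have hmem : ∀ i, μ' i ∈ S := fun i => Finset.mem_image_of_mem _ (Finset.mem_univ i)
  have hScard : S.card = Fintype.card ι := Finset.card_image_of_injective _ hμ'
  have hin : ∀ j (f : ι → ℂ), ∑ i, (if μ' j = μ' i then f i else 0) = f j := fun j f => by
    rw [Finset.sum_eq_single j (fun i _ hne => if_neg fun e => hne (hμ' e.symm))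
      (fun h => absurd (Finset.mem_univ j) h), if_pos rfl]
  have hvalS : ∀ j (t : T), t ≠ 1 → (μ' j : G → ℂ) t = (a (μ' j) : ℂ) + (ε : ℂ) * eta j t := by
    intro j t ht
    rw [hval, hin, if_neg ht, mul_zero, add_zero]
  have hnotS : ∀ χ ∉ S, ∀ i, χ ≠ μ' i := fun χ hχ i e => hχ (e ▸ hmem i)
  -- the additive constant
  have hconst : ∀ j, a (μ' j) = a (μ' i₀) := by
    intro j
    obtain ⟨t, ht⟩ : ∃ t : T, t ≠ 1 := by
      haveI : Nontrivial T := Finite.one_lt_card_iff_nontrivial.1 (by omega)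
      exact exists_ne 1
    refine Int.cast_injective (α := ℂ) ?_
    have h := congrFun (hτμ j) t
    rw [hτval, Pi.smul_apply, Pi.sub_apply, smul_eq_mul, hεc,
      show μ j (t : G) = (μ' j : G → ℂ) t from rfl, show μ i₀ (t : G) = (μ' i₀ : G → ℂ) t from rfl,
      hvalS j t ht, hvalS i₀ t ht] at h
    linear_combination (-(ε : ℂ)) * h + (-(a (μ' j) : ℂ) + (a (μ' i₀) : ℂ)
      - (ε : ℂ) * (eta j t - eta i₀ t)) * hεε
  refine ⟨S, ε, a (μ' i₀), hε, by rw [hScard, hk], ?_, ?_, ?_, ?_, ?_⟩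
  · rintro χ hχ ψ hψ g hg
    obtain ⟨i, -, rfl⟩ := Finset.mem_image.1 hχ
    obtain ⟨j, -, rfl⟩ := Finset.mem_image.1 hψ
    have key : ∀ i, μ i g = μ i₀ g := by
      intro i
      have h := congrFun (hτμ i) g
      rw [Pi.smul_apply, Pi.sub_apply, smul_eq_mul] at h
      have h0 : τ i g = 0 := by
        rcases hg with rfl | hg
        exacts [hτone i, hτout i g hg]
      rw [h0, eq_comm, mul_eq_zero, sub_eq_zero] at h
      exact h.resolve_left (by rcases hε' with h | h <;> rw [h] <;> norm_num)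
    exact (key i).trans (key j).symm
  · rintro χ hχ e he
    obtain ⟨j, -, rfl⟩ := Finset.mem_image.1 hχ
    obtain ⟨j', hj'⟩ : ∃ j', j' ≠ j := Fintype.exists_ne_of_one_lt_card (by omega) j
    have hMc : ∀ θ : T →* ℂˣ, θ ≠ 1 → (M (μ' j) θ : ℂ) = (n : ℂ)⁻¹ * ((deg (μ' j) : ℂ) - e) := by
      intro θ hθ
      rw [← hM]
      simp only [Cfsg.classInner]
      rw [← hn]
      congr 1
      rw [← Finset.add_sum_erase _ _ (Finset.mem_univ (1 : T)),
        Finset.sum_congr rfl
          (g := fun s : T => e * conj (θ s : ℂ)) fun s hs => by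
            rw [he s s.2 fun h => (Finset.mem_erase.1 hs).1 (Subtype.ext h)]]
      rw [← Finset.mul_sum, Finset.sum_erase_eq_sub (Finset.mem_univ _)]
      have h0 : ∑ s : T, conj (θ s : ℂ) = 0 := by
        have h := horth θ 1
        rw [if_neg hθ, classInner_conj_symm, map_eq_zero] at h
        simp only [Cfsg.classInner, mul_eq_zero, inv_eq_zero, MonoidHom.one_apply, Units.val_one,
          one_mul] at h
        exact h.resolve_left (by rw [← hn]; exact hn0)
      rw [h0, hT1, char_one]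
      simp
      ring
    have h1 := hMc (rep j).1 (rep j).2
    have h2 := hMc (rep j').1 (rep j').2
    rw [← h2, hMval, hMval, hrep, hrep, if_pos rfl, if_neg fun e => hj' (hμ' e).symm] at h1
    have : ε = 0 := by
      have h3 : b (μ' j) + ε * 1 = b (μ' j) + ε * 0 := Int.cast_injective h1
      linarith
    rcases hε with h | h <;> omega
  · intro χ hχ
    refine ⟨a χ, fun t ht ht1 => ?_, ⟨b χ, ?_⟩⟩
    · rw [show t = ((⟨t, ht⟩ : T) : G) from rfl, hval, if_neg fun e => ht1 (congrArg Subtype.val e)]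
      simp [hnotS χ hχ]
    · refine Int.cast_injective (α := ℂ) ?_
      push_cast
      rw [hdeg]
      simp [hnotS χ hχ]
      ring
  · intro χ hχ
    obtain ⟨j, -, rfl⟩ := Finset.mem_image.1 hχ
    refine ⟨b (μ' j), Int.cast_injective (α := ℂ) ?_⟩
    push_cast
    rw [hdeg, hin, hconst j]
    ring
  · intro t ht ht1
    set s : T := ⟨t, ht⟩ with hs
    have hs1 : s ≠ 1 := fun e => ht1 (congrArg Subtype.val e)
    set A : ℂ := (a (μ' i₀) : ℂ) with hA
    have hsqS : ∑ χ ∈ S, (χ : G → ℂ) t * conj ((χ : G → ℂ) t) =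
        (S.card : ℂ) * A ^ 2 - 2 * ε * A + (n - 6) := by
      rw [hS, Finset.sum_image fun i _ j _ h => hμ' h]
      have e : ∀ i, (μ' i : G → ℂ) t = A + (ε : ℂ) * eta i s := fun i => by
        rw [show t = (s : G) from rfl, hvalS i s hs1, hconst]
      simp only [e, map_add, map_mul, map_intCast, hA]
      rw [← hA, Finset.sum_congr rfl (g := fun i => A ^ 2 + (ε : ℂ) * A * eta i s +
        (ε : ℂ) * A * conj (eta i s) + eta i s * conj (eta i s)) fun i _ => by
          linear_combination (eta i s * conj (eta i s)) * hεε]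
      simp only [Finset.sum_add_distrib, ← Finset.mul_sum, ← map_sum, hetasum, if_neg hs1,
        Finset.sum_const, Finset.card_univ, nsmul_eq_mul]
      have hsq : ∑ i, eta i s * conj (eta i s) = (n : ℂ) - 6 := by
        have h1 : ∀ i, eta i s * conj (eta i s) =
            ∑ θ ∈ fib i, (θ.1 s : ℂ) * conj (eta (Quotient.mk R θ) s) := by
          intro i
          simp only [eta, Finset.sum_mul]
          refine Finset.sum_congr rfl fun θ hθ => ?_
          rw [(Finset.mem_filter.1 hθ).2]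
        rw [Finset.sum_congr rfl fun i _ => h1 i]
        simp only [fib]
        rw [Finset.sum_fiberwise Finset.univ (fun φ => Quotient.mk R φ)
          (fun θ : {φ : T →* ℂˣ // φ ≠ 1} => (θ.1 s : ℂ) * conj (eta (Quotient.mk R θ) s))]
        refine mul_left_cancel₀ hn0 ?_
        have h2 : ∀ θ : {φ : T →* ℂˣ // φ ≠ 1}, (n : ℂ) * ((θ.1 s : ℂ) * conj (eta (Quotient.mk R θ) s)) =
            ∑ x : N, (θ.1 (s * (cj x s)⁻¹) : ℂ) := by
          intro θ
          rw [show (n : ℂ) * ((θ.1 s : ℂ) * conj (eta (Quotient.mk R θ) s)) =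
            (θ.1 s : ℂ) * conj ((n : ℂ) * eta (Quotient.mk R θ) s) by
              rw [map_mul, Complex.conj_natCast]; ring, ← heta, map_sum, Finset.mul_sum]
          exact Finset.sum_congr rfl fun x _ => by rw [hconj, map_mul, Units.val_mul]
        rw [Finset.mul_sum, Finset.sum_congr rfl fun θ _ => h2 θ, Finset.sum_comm]
        have h3 : ∀ x : N, ∑ θ : {φ : T →* ℂˣ // φ ≠ 1}, (θ.1 (s * (cj x s)⁻¹) : ℂ) =
            (if (x : G) ∈ T then (n : ℂ) else 0) - 1 := by
          intro x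
          rw [← Finset.sum_subtype (Finset.univ.filter fun θ : T →* ℂˣ => θ ≠ 1) (fun θ => by simp)
            fun θ : T →* ℂˣ => (θ (s * (cj x s)⁻¹) : ℂ), hsum1]
          congr 1
          refine if_congr ⟨fun h => hcjfix x s hs1 (mul_inv_eq_one.1 h).symm, fun h => ?_⟩ rfl rfl
          rw [hcjT x h, mul_inv_cancel]
        rw [Finset.sum_congr rfl fun x _ => h3 x, Finset.sum_sub_distrib, ← Finset.sum_filter,
          Finset.sum_const, Finset.sum_const, Finset.card_univ, nsmul_eq_mul, nsmul_eq_mul]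
        have hc1 : (Finset.univ.filter fun x : N => (x : G) ∈ T).card = n := by
          rw [hn, Nat.card_eq_fintype_card, ← Finset.card_univ (α := T)]
          exact Finset.card_bij (fun x hx => ⟨(x : G), (Finset.mem_filter.1 hx).2⟩)
            (fun _ _ => Finset.mem_univ _) (fun x _ y _ h => Subtype.ext (congrArg Subtype.val h :))
            (fun y _ => ⟨⟨(y : G), Subgroup.le_normalizer y.2⟩, Finset.mem_filter.2
              ⟨Finset.mem_univ _, y.2⟩, rfl⟩)
        have hc2 : (Fintype.card N : ℂ) = 6 * (n : ℂ) := by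
          rw [← Nat.card_eq_fintype_card, hN, hT.card_norm]
          push_cast; rfl
        rw [hc1, hc2]
        ring
      rw [hsq, hScard]
      simp
      ring
    have htot : ∑ χ : Cfsg.IrrCharacter G, (χ : G → ℂ) t * conj ((χ : G → ℂ) t) = (n : ℂ) := by
      rw [sum_irr_mul_conj_of_isConj (IsConj.refl t), hT.cent t ht ht1]
    rw [← Finset.sum_compl_add_sum S, hsqS] at htot
    simp only [Complex.mul_conj'] at htot
    have : ((∑ χ ∈ Sᶜ, ‖(χ : G → ℂ) t‖ ^ 2 + (S.card : ℝ) * (a (μ' i₀) : ℝ) ^ 2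
        - 2 * ε * (a (μ' i₀) : ℝ) : ℝ) : ℂ) = ((6 : ℝ) : ℂ) := by
      push_cast
      linear_combination htot
    exact_mod_cast this

end CfsgLib.ReeCover
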