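import Cfsg.Agent.ReeCover.Split
import Cfsg.Agent.ReeCover.Degree

/-!
Squares of the classes of elements centralised by tori of order `q ± 3 ^ (m + 1) + 1`.
-/

set_option autoImplicit false
set_option linter.unusedSectionVars false
set_option linter.style.haveILetI false
set_option synthInstance.maxHeartbeats 200000
set_option maxHeartbeats 400000

namespace CfsgLib.ReeCover

open Cfsg.Lie CfsgLib.Chevalley CfsgLib.ReeG2 CfsgLib.ReeG2Tori CfsgLib.Characters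
open scoped MatrixGroups ComplexConjugate

variable {K : Type*} [Field K] [CharP K 3] [Finite K] {m : ℕ}
  (hK : Nat.card K = 3 ^ (2 * m + 1))
include hK

set_option quotPrecheck false in
local notation "GR" => ↥(Tw K m)

omit hK in
theorem arith_facts (hm : 1 ≤ m) :
    ((3 : ℤ) ^ (m + 1) * 3 ^ (m + 1) = 3 * (qq m : ℤ)) ∧ 9 ≤ (3 : ℤ) ^ (m + 1) ∧
      3 * (3 : ℤ) ^ (m + 1) ≤ (qq m : ℤ) ∧
      (m = 1 ∨ (81 * (3 : ℤ) ^ (m + 1) ≤ 3 * (qq m : ℤ) ∧ 81 ≤ (3 : ℤ) ^ (m + 1) ∨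
        (qq m : ℤ) = 243 ∧ (3 : ℤ) ^ (m + 1) = 27)) := by
  have hq : (qq m : ℤ) = 3 ^ (2 * m + 1) := by simp [qq]
  have h2 : (9 : ℤ) ≤ 3 ^ (m + 1) :=
    calc (9 : ℤ) = 3 ^ 2 := by norm_num
      _ ≤ _ := pow_le_pow_right₀ (by norm_num) (by omega)
  have h3 : 3 * (3 : ℤ) ^ (m + 1) ≤ (qq m : ℤ) := by
    rw [hq, ← pow_succ']
    exact pow_le_pow_right₀ (by norm_num) (by omega)
  refine ⟨by rw [hq]; ring, h2, h3, ?_⟩
  rcases Nat.lt_or_ge m 3 with h | h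
  · interval_cases m
    · exact Or.inl rfl
    · exact Or.inr (Or.inr ⟨by rw [hq]; norm_num, by norm_num⟩)
  · refine Or.inr (Or.inl ⟨?_, ?_⟩)
    · rw [hq, show (81 : ℤ) = 3 ^ 4 by norm_num, ← pow_add, ← pow_succ']
      exact pow_le_pow_right₀ (by norm_num) (by omega)
    · calc (81 : ℤ) = 3 ^ 4 := by norm_num
        _ ≤ _ := pow_le_pow_right₀ (by norm_num) (by omega)

/-- The order of a Singer torus. -/
def SingerCard (m : ℕ) (n : ℕ) : Prop :=
  (n : ℤ) = (qq m : ℤ) - 3 ^ (m + 1) + 1 ∨ (n : ℤ) = (qq m : ℤ) + 3 ^ (m + 1) + 1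

/-- An element of a Singer torus has no conjugate in the Borel subgroup. -/
theorem singer_not_Bor {T : Subgroup GR} (hd : Nat.card T ∣ nA m) {t : GR} (ht : t ∈ T)
    (ht1 : t ≠ 1) (x : GR) : x⁻¹ * t * x ∉ Bor K m := by
  obtain ⟨ℓ, hℓ, hℓd⟩ := Nat.exists_prime_and_dvd (fun e => ht1 (orderOf_eq_one_iff.1 e))
  have hℓn : ℓ ∣ nA m := hℓd.trans ((Subgroup.orderOf_dvd_natCard _ ht).trans hd)
  exact not_conj_Bor hK hℓ hℓd (prime_ne_of_dvd_nA hℓ hℓn).2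
    (fun h => not_dvd_nA hℓ (Or.inl h) hℓn) x

theorem Bor_not_singer {T : Subgroup GR} (hd : Nat.card T ∣ nA m) {b : GR} (hb : b ∈ Bor K m) :
    b = 1 ∨ ∀ x : GR, x⁻¹ * b * x ∉ T := by
  by_cases h1 : b = 1
  · exact Or.inl h1
  refine Or.inr fun x hx => ?_
  refine singer_not_Bor hK hd hx (fun e => h1 ?_) x⁻¹ (by simpa [mul_assoc] using hb)
  have h2 := congrArg (fun y => x * y * x⁻¹) e
  simpa [mul_assoc] using h2

variable [Fintype ↥(Tw K m)]

omit hK in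
theorem sum_sq_le_sq_sum {ι : Type*} (s : Finset ι) (f : ι → ℝ) (hf : ∀ i ∈ s, 0 ≤ f i) :
    ∑ i ∈ s, f i ^ 2 ≤ (∑ i ∈ s, f i) ^ 2 := by
  rw [sq (∑ i ∈ s, f i), Finset.mul_sum]
  refine Finset.sum_le_sum fun i hi => ?_
  rw [sq]
  exact mul_le_mul_of_nonneg_right (Finset.single_le_sum hf hi) (hf i hi)

open Classical in
/-- The exceptional family of a Singer torus and the rest of the character sum at its elements. -/
theorem exists_family (hm : 1 ≤ m) {T : Subgroup GR} (hT : IsSix T) (hd : Nat.card T ∣ nA m)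
    (hn : SingerCard m (Nat.card T)) {St : Cfsg.IrrCharacter GR} (hStd : deg St = qq m ^ 3)
    (hStne : St ≠ triv GR) (hStv : ∀ g, (St : GR → ℂ) g = piChar (K := K) (m := m) g - 1) :
    ∃ (S : Finset (Cfsg.IrrCharacter GR)) (ε c : ℤ), (ε = 1 ∨ ε = -1) ∧
      Nat.card T = 6 * S.card + 1 ∧ 3 ≤ S.card ∧
      (c = 0 ∨ c = ε) ∧ (7 ≤ S.card → c = 0) ∧
      (S ⊆ (Finset.univ.erase (triv GR)).erase St) ∧
      (∀ χ ∈ S, ∀ ψ ∈ S, ∀ g : GR, g = 1 ∨ (∀ x : GR, x⁻¹ * g * x ∉ T) →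
        (χ : GR → ℂ) g = (ψ : GR → ℂ) g) ∧
      (∀ χ ∈ ((Finset.univ.erase (triv GR)).erase St) \ S, ∃ e : ℤ, e ^ 2 ≤ 4 ∧
        (Nat.card T : ℤ) ∣ (deg χ : ℤ) - e) ∧
      (∀ χ ∈ S, (Nat.card T : ℤ) ∣ (deg χ : ℤ) - 6 * ε - c) ∧
      ∀ t ∈ T, t ≠ 1 → ‖(St : GR → ℂ) t‖ = 1 ∧
        ∃ s : ℝ, 0 ≤ s ∧ s ≤ 4 ∧
          ∑ χ ∈ ((Finset.univ.erase (triv GR)).erase St) \ S, ‖(χ : GR → ℂ) t‖ ^ 2 = s ∧
          ∑ χ ∈ S, ‖(χ : GR → ℂ) t‖ ^ 2 = (Nat.card T : ℝ) - 2 - s := by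
  have hq := le_qq hm
  obtain ⟨hAA, hA9, hA3, -⟩ := arith_facts (m := m) hm
  have h13 : 13 ≤ Nat.card T := by
    rcases hn with h | h <;> omega
  obtain ⟨S, ε, c, hε, hcard, hsame, hnc, hconst, hdvd, hmass⟩ := exists_exceptional_six hT h13
  have hStval : ∀ t ∈ T, t ≠ 1 → (St : GR → ℂ) t = -1 := fun t ht ht1 => by
    rw [hStv, piChar_eq_zero hK (singer_not_Bor hK hd ht ht1), zero_sub]
  have htriv : triv GR ∉ S := fun h => hnc _ h 1 fun t _ _ => rfl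
  have hSt : St ∉ S := fun h => hnc _ h (-1) hStval
  have hsub : S ⊆ (Finset.univ.erase (triv GR)).erase St := fun χ hχ =>
    Finset.mem_erase.2 ⟨fun e => hSt (e ▸ hχ), Finset.mem_erase.2 ⟨fun e => htriv (e ▸ hχ),
      Finset.mem_univ _⟩⟩
  set R := ((Finset.univ.erase (triv GR)).erase St) \ S with hR
  have hSc : Sᶜ = insert (triv GR) (insert St R) := by
    ext χ
    simp only [Finset.mem_compl, Finset.mem_insert, hR, Finset.mem_sdiff, Finset.mem_erase,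
      Finset.mem_univ, and_true]
    constructor
    · intro h
      tauto
    · rintro (rfl | rfl | h)
      exacts [htriv, hSt, h.2]
  have hmass' : ∀ t ∈ T, t ≠ 1 → ∑ χ ∈ R, ‖(χ : GR → ℂ) t‖ ^ 2 =
      4 + 2 * (ε : ℝ) * c - (S.card : ℝ) * (c : ℝ) ^ 2 := by
    intro t ht ht1
    have h := hmass t ht ht1
    rw [hSc, Finset.sum_insert (by simp [hStne.symm, hR]), Finset.sum_insert (by simp [hR]),
      triv_apply, hStval t ht ht1, norm_one, norm_neg, norm_one] at h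
    linarith
  obtain ⟨t₀, ht₀, ht₀1⟩ : ∃ t ∈ T, t ≠ 1 := by
    haveI : Nontrivial T := Finite.one_lt_card_iff_nontrivial.1 (by omega)
    obtain ⟨⟨t, ht⟩, h⟩ := exists_ne (1 : T)
    exact ⟨t, ht, fun e => h (Subtype.ext e)⟩
  have hineq : (S.card : ℤ) * c ^ 2 - 2 * ε * c ≤ 4 := by
    have h0 : 0 ≤ ∑ χ ∈ R, ‖(χ : GR → ℂ) t₀‖ ^ 2 := Finset.sum_nonneg fun _ _ => by positivity
    rw [hmass' t₀ ht₀ ht₀1] at h0
    have h1 : (((S.card : ℤ) * c ^ 2 - 2 * ε * c : ℤ) : ℝ) ≤ ((4 : ℤ) : ℝ) := by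
      push_cast; linarith
    exact_mod_cast h1
  have hk3 : 3 ≤ S.card := by
    rcases hn with h | h <;> omega
  have hk3' : (3 : ℤ) ≤ S.card := by exact_mod_cast hk3
  have h3 : 3 * c ^ 2 ≤ (S.card : ℤ) * c ^ 2 := mul_le_mul_of_nonneg_right hk3' (sq_nonneg c)
  have hc1 : -1 ≤ c ∧ c ≤ 1 := by
    constructor <;> rcases hε with rfl | rfl <;> nlinarith
  obtain ⟨hc1, hc2⟩ := hc1
  have hccase : c = 0 ∨ c = ε := by
    rcases hε with rfl | rfl <;> interval_cases c <;> omega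
  have hs4 : (2 : ℝ) * ε * c - (S.card : ℝ) * (c : ℝ) ^ 2 ≤ 0 := by
    have h1 : (2 : ℤ) * ε * c - (S.card : ℤ) * c ^ 2 ≤ 0 := by
      rcases hε with rfl | rfl <;> interval_cases c <;> omega
    exact_mod_cast h1
  refine ⟨S, ε, c, hε, hcard, hk3, hccase, fun h7 => ?_, hsub, hsame, fun χ hχ => ?_, hdvd,
    fun t ht ht1 => ⟨by rw [hStval t ht ht1, norm_neg, norm_one], _, ?_, ?_, hmass' t ht ht1, ?_⟩⟩
  · rcases hccase with h | h
    · exact h
    · subst h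
      have : (7 : ℤ) ≤ S.card := by exact_mod_cast h7
      rcases hε with rfl | rfl <;> omega
  · obtain ⟨e, he, hed⟩ := hconst χ (Finset.mem_sdiff.1 hχ).2
    refine ⟨e, ?_, hed⟩
    have h1 := Finset.single_le_sum (f := fun χ : Cfsg.IrrCharacter GR => ‖(χ : GR → ℂ) t₀‖ ^ 2)
      (fun _ _ => by positivity) hχ
    rw [hmass' t₀ ht₀ ht₀1, he t₀ ht₀ ht₀1, Complex.norm_intCast, sq_abs] at h1
    have h2 : ((e ^ 2 : ℤ) : ℝ) ≤ ((4 : ℤ) : ℝ) := by push_cast; linarith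
    exact_mod_cast h2
  · rw [← hmass' t ht ht1]
    exact Finset.sum_nonneg fun _ _ => by positivity
  · linarith
  · have h := hmass t ht ht1
    have htot := sum_norm_sq (G := GR) t
    rw [hT.cent t ht ht1, ← Finset.sum_compl_add_sum S] at htot
    linarith

open Classical in
/-- The value on the central elements and the split divisibility for the exceptional characters. -/
theorem family_value {T : Subgroup GR} (hd : Nat.card T ∣ nA m)
    {S : Finset (Cfsg.IrrCharacter GR)} (hS : 3 ≤ S.card)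
    (hsame : ∀ χ ∈ S, ∀ ψ ∈ S, ∀ g : GR, g = 1 ∨ (∀ x : GR, x⁻¹ * g * x ∉ T) →
      (χ : GR → ℂ) g = (ψ : GR → ℂ) g)
    {χ : Cfsg.IrrCharacter GR} (hχ : χ ∈ S) :
    ∃ v : ℤ, (qq m : ℤ) ^ 2 ∣ (deg χ : ℤ) - v ∧ (S.card : ℤ) * v ^ 2 ≤ (qq m : ℤ) ^ 3 ∧
      ((qq m : ℤ) - 1) ∣ 2 * (deg χ : ℤ) := by
  have hB : ∀ ψ ∈ S, ∀ ψ' ∈ S, ∀ b ∈ Bor K m, (ψ : GR → ℂ) b = (ψ' : GR → ℂ) b :=
    fun ψ hψ ψ' hψ' b hb => hsame ψ hψ ψ' hψ' b (Bor_not_singer hK hd hb)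
  obtain ⟨a, j, hdeg, hv, -⟩ := exists_decomp hK χ
  refine ⟨(a : ℤ) - qq m * j, ⟨j, ?_⟩, ?_, ?_⟩
  · have hd' : (deg χ : ℤ) = a + (qq m : ℤ) * ((qq m : ℤ) - 1) * j := by
      rw [hdeg, Nat.cast_add, Nat.cast_mul, Nat.cast_mul, Nat.cast_sub (one_lt_qq (m := m)).le,
        Nat.cast_one]
    rw [hd']; ring
  · set z : GR := wU m ((0, 0, 1) : K × K × K) with hz
    have h1 := sum_norm_sq_le S z
    rw [Finset.sum_congr rfl (g := fun _ => ((((a : ℤ) - qq m * j : ℤ) : ℝ)) ^ 2) fun ψ hψ => by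
      have e : (χ : GR → ℂ) z = (((a : ℤ) - qq m * j : ℤ) : ℂ) := by
        rw [hv, Int.cast_sub, Int.cast_mul, Int.cast_natCast, Int.cast_natCast, Int.cast_natCast]
      rw [hB ψ hψ χ hχ z (Usub_le (wU_mem _)), e, Complex.norm_intCast, sq_abs],
      Finset.sum_const, nsmul_eq_mul] at h1
    have h2 : (Nat.card (Subgroup.centralizer {z}) : ℝ) ≤ (qq m : ℝ) ^ 3 := by
      exact_mod_cast card_centralizer_central hK one_ne_zero
    exact_mod_cast h1.trans h2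
  · have h := split_of_same hK S hS hB hχ
    have h2 : qq m - 1 = 2 * ((qq m - 1) / 2) := by
      have := qq_mod_eight (m := m)
      omega
    have h3 : qq m - 1 ∣ 2 * deg χ := h2 ▸ mul_dvd_mul_left 2 h
    have h4 : ((qq m - 1 : ℕ) : ℤ) ∣ ((2 * deg χ : ℕ) : ℤ) := Int.natCast_dvd_natCast.2 h3
    rwa [Nat.cast_sub (one_lt_qq (m := m)).le, Nat.cast_one, Nat.cast_mul] at h4

theorem le_deg_int (hm : 1 ≤ m) {χ : Cfsg.IrrCharacter GR} (h : χ ≠ triv GR) :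
    (qq m : ℤ) * ((qq m : ℤ) - 1) ≤ (deg χ : ℤ) := by
  have := le_deg hK hm h
  rw [← Nat.cast_le (α := ℤ), Nat.cast_mul, Nat.cast_sub (one_lt_qq (m := m)).le, Nat.cast_one]
    at this
  exact this

omit [Fintype ↥(Tw K m)] in
theorem exists_plus (hm : 1 ≤ m) : ∃ A : Subgroup GR, IsSix A ∧ Nat.card A ∣ nA m ∧
    (Nat.card A : ℤ) = (qq m : ℤ) + 3 ^ (m + 1) + 1 := by
  obtain ⟨A₁, A₂, -, hA₂, -, -, -, hc₂, hmul, -, hN₂, -⟩ := exists_singer hK hm
  refine ⟨A₂, ⟨hA₂.comm, fun t ht ht1 => hA₂.cent t ht (sq_ne_one_of_odd ht1 ?_), hN₂⟩,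
    Dvd.intro_left _ hmul, hc₂⟩
  exact ((odd_nA (m := m)).of_dvd_nat (Dvd.intro_left _ hmul)).of_dvd_nat
    (Subgroup.orderOf_dvd_natCard _ ht)

open Classical in
/-- Lower bounds for the degrees of exceptional characters. -/
theorem family_deg (hm : 1 ≤ m) {T : Subgroup GR} (hT : IsSix T) (hd : Nat.card T ∣ nA m)
    (hn : SingerCard m (Nat.card T)) {St : Cfsg.IrrCharacter GR} (hStd : deg St = qq m ^ 3)
    (hStne : St ≠ triv GR) (hStv : ∀ g, (St : GR → ℂ) g = piChar (K := K) (m := m) g - 1)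
    {S : Finset (Cfsg.IrrCharacter GR)} {ε c : ℤ} (hε : ε = 1 ∨ ε = -1)
    (hcard : Nat.card T = 6 * S.card + 1) (hS : 3 ≤ S.card) (hc : c = 0 ∨ c = ε)
    (hc7 : 7 ≤ S.card → c = 0) (hsub : S ⊆ (Finset.univ.erase (triv GR)).erase St)
    (hsame : ∀ χ ∈ S, ∀ ψ ∈ S, ∀ g : GR, g = 1 ∨ (∀ x : GR, x⁻¹ * g * x ∉ T) →
      (χ : GR → ℂ) g = (ψ : GR → ℂ) g)
    (hdvd : ∀ χ ∈ S, (Nat.card T : ℤ) ∣ (deg χ : ℤ) - 6 * ε - c)
    {χ : Cfsg.IrrCharacter GR} (hχ : χ ∈ S) :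
    (2 ≤ m → 3 * (qq m : ℤ) ^ 2 ≤ deg χ) ∧
    (m = 1 → Nat.card T = 37 → (3100 : ℤ) ≤ deg χ) ∧
    (m = 1 → Nat.card T = 19 → (2200 : ℤ) ≤ deg χ) := by
  obtain ⟨v, hzv, hv, h2⟩ := family_value hK hd hS hsame hχ
  have hχne : χ ≠ triv GR := Finset.ne_of_mem_erase (Finset.mem_of_mem_erase (hsub hχ))
  have hdlb := le_deg_int hK hm hχne
  have hdn := hdvd χ hχ
  obtain ⟨hAA, hA9, hA3, hcases⟩ := arith_facts (m := m) hm
  have hk : (Nat.card T : ℤ) = 6 * (S.card : ℤ) + 1 := by exact_mod_cast hcard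
  refine ⟨fun h2m => ?_, fun hm1 hT37 => ?_, fun hm1 hT19 => ?_⟩
  · have hq := hcases.resolve_left (by omega)
    have hk7 : 7 ≤ S.card := by
      rcases hn with h | h <;> omega
    rw [hc7 hk7, sub_zero] at hdn
    exact Degree.big hq hAA (hn.imp (fun h => h) (fun h => h)) hk hε hdn h2 hzv hv hdlb
  · subst hm1
    have hk6 : (S.card : ℤ) = 6 := by omega
    have hq27 : ((qq 1 : ℕ) : ℤ) = 27 := by norm_num [qq]
    rw [hq27] at hzv hv h2 hdlb
    rw [hk6] at hv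
    rw [hT37] at hdn
    norm_num at hzv hv h2 hdn
    exact Degree.small_plus hε hc hdn h2 hzv hv (by omega)
  · subst hm1
    have hk3' : (S.card : ℤ) = 3 := by omega
    have hq27 : ((qq 1 : ℕ) : ℤ) = 27 := by norm_num [qq]
    rw [hq27] at hzv hv h2 hdlb
    rw [hk3'] at hv
    rw [hT19] at hdn
    norm_num at hzv hv h2 hdn
    obtain ⟨A, hA, hAd, hAc⟩ := exists_plus hK (m := 1) le_rfl
    have hA37 : Nat.card A = 37 := by
      have h : (Nat.card A : ℤ) = 37 := by rw [hAc, hq27]; norm_num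
      exact_mod_cast h
    obtain ⟨S', ε', c', hε', hcard', hS', hc', -, hsub', hsame', hrest', hdvd', -⟩ :=
      exists_family hK (m := 1) le_rfl hA hAd (Or.inr hAc) hStd hStne hStv
    have hnot : deg χ < 3100 → χ ∉ S' := by
      intro hlt hin
      obtain ⟨v', hzv', hv', h2'⟩ := family_value hK hAd hS' hsame' hin
      have hdn' := hdvd' χ hin
      have hk6 : (S'.card : ℤ) = 6 := by omega
      rw [hq27] at hzv' hv' h2'
      rw [hk6] at hv'
      rw [hA37] at hdn'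
      norm_num at hzv' hv' h2' hdn'
      have h3 := Degree.small_plus hε' hc' hdn' h2' hzv' hv' (by omega)
      omega
    by_contra hlt
    obtain ⟨e, he4, hed⟩ := hrest' χ (Finset.mem_sdiff.2 ⟨hsub hχ, hnot (by omega)⟩)
    rw [hA37] at hed
    norm_num at hed
    exact hlt (Degree.small_minus hε hc hdn hzv hv (fun _ => hed) (fun _ => he4) (by omega))

theorem card_centralizer_le_cube (hm : 1 ≤ m) {g : GR} (hg : g ≠ 1) :
    Nat.card (Subgroup.centralizer {g}) ≤ qq m ^ 3 := by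
  have hq := le_qq hm
  have hq23 : qq m ^ 2 ≤ qq m ^ 3 := Nat.pow_le_pow_right (by omega) (by omega)
  have hbc : ∀ b : K, b ≠ 0 → Nat.card (Subgroup.centralizer {wU m ((0, b, 0) : K × K × K)}) ≤
      qq m ^ 3 := fun b hb => (card_centralizer_bType hK hb 0).trans (by
    rw [pow_succ _ 2, mul_comm]; exact Nat.mul_le_mul_left _ (by omega))
  rcases element_cases hK hm hg with ⟨c, rfl⟩ | h | (h | h) | h
  · rw [centralizer_conj, card_map_conj, natCard_centralizer_aT hK, pow_succ' _ 2]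
    refine Nat.mul_le_mul_left _ ?_
    obtain ⟨k, hk⟩ : ∃ k, qq m = k + 1 := ⟨qq m - 1, by omega⟩
    rw [hk, Nat.add_sub_cancel]
    nlinarith
  · rw [card_centralizer_of_isConj h]
    exact card_centralizer_central hK one_ne_zero
  · rw [card_centralizer_of_isConj h]
    exact hbc 1 one_ne_zero
  · rw [card_centralizer_of_isConj h, wU_inv_b hK]
    exact hbc (-1) (neg_ne_zero.2 one_ne_zero)
  · omega

omit hK [Fintype ↥(Tw K m)] in
theorem scale_one {M k d y : ℝ} (hk : k ≠ 0) : M * (y / d) = k * (M / (k * d) * y) := by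
  field_simp

omit hK [Fintype ↥(Tw K m)] in
theorem scale_two {M k d : ℝ} (hk : k ≠ 0) : k * (M / (k * d)) ^ 2 = M ^ 2 / (k * d ^ 2) := by
  rw [div_pow, mul_pow, ← mul_div_assoc, sq k, mul_assoc k k, mul_div_mul_left _ _ hk]

omit hK [Fintype ↥(Tw K m)] in
theorem final_small {s M k d n : ℝ} (hs0 : 0 ≤ s) (hs4 : s ≤ 4) (hM0 : 0 ≤ M)
    (hM : M = n - 2 - s) (hk : n = 6 * k + 1)
    (h : (n = 19 ∧ 2200 ≤ d) ∨ (n = 37 ∧ 3100 ≤ d)) :
    ((1 / (27 : ℝ) ^ 3) ^ 2 + (s / (27 * (27 - 1))) ^ 2 + M ^ 2 / (k * d ^ 2)) * 27 ^ 3 < 1 := by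
  have hs2 : s ^ 2 ≤ 4 * s := by nlinarith
  rcases h with ⟨hn, hd⟩ | ⟨hn, hd⟩
  · have hk3 : k = 3 := by linarith
    have hMs : M ^ 2 ≤ 289 - 30 * s := by rw [hM, hn]; nlinarith
    have hdiv : M ^ 2 / (k * d ^ 2) ≤ M ^ 2 / (3 * 2200 ^ 2) := by
      rw [hk3]
      refine div_le_div_of_nonneg_left (sq_nonneg M) (by norm_num) ?_
      nlinarith
    nlinarith
  · have hk6 : k = 6 := by linarith
    have hMs : M ^ 2 ≤ 1225 - 66 * s := by rw [hM, hn]; nlinarith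
    have hdiv : M ^ 2 / (k * d ^ 2) ≤ M ^ 2 / (6 * 3100 ^ 2) := by
      rw [hk6]
      refine div_le_div_of_nonneg_left (sq_nonneg M) (by norm_num) ?_
      nlinarith
    nlinarith

omit hK [Fintype ↥(Tw K m)] in
theorem final_big {q s M k d n : ℝ} (hq : 243 ≤ q) (hs0 : 0 ≤ s) (hs4 : s ≤ 4) (hM0 : 0 ≤ M)
    (hM : M = n - 2 - s) (hk : n = 6 * k + 1) (hk0 : 0 < k) (hn : 9 * n ≤ 10 * q + 9)
    (hd : 3 * q ^ 2 ≤ d) :
    ((1 / q ^ 3) ^ 2 + (s / (q * (q - 1))) ^ 2 + M ^ 2 / (k * d ^ 2)) * q ^ 3 < 1 := by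
  have hq0 : 0 < q := by linarith
  have hq1 : 0 < q - 1 := by linarith
  have hd0 : 0 < d := lt_of_lt_of_le (by positivity) hd
  have e1 : (1 / q ^ 3) ^ 2 * q ^ 3 ≤ 1 / 1000 := by
    rw [show (1 / q ^ 3) ^ 2 * q ^ 3 = 1 / q ^ 3 by field_simp]
    refine div_le_div_of_nonneg_left zero_le_one (by norm_num) ?_
    calc (1000 : ℝ) ≤ 243 ^ 3 := by norm_num
      _ ≤ q ^ 3 := pow_le_pow_left₀ (by norm_num) hq 3
  have hs16 : s ^ 2 ≤ 16 := by nlinarith
  have e2 : (s / (q * (q - 1))) ^ 2 * q ^ 3 ≤ 1 / 10 := by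
    rw [show (s / (q * (q - 1))) ^ 2 * q ^ 3 = s ^ 2 * q / (q - 1) ^ 2 by field_simp,
      div_le_div_iff₀ (by positivity) (by norm_num)]
    nlinarith [mul_le_mul_of_nonneg_right hs16 hq0.le]
  have hM6 : M ≤ 6 * k := by linarith
  have h1 : M ^ 2 / (k * d ^ 2) ≤ 36 * k / (9 * q ^ 4) := by
    rw [div_le_div_iff₀ (by positivity) (by positivity)]
    have h2 : 9 * q ^ 4 ≤ d ^ 2 := by
      have := pow_le_pow_left₀ (by positivity) hd 2
      linarith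
    have h3 : M ^ 2 ≤ 36 * k ^ 2 := by nlinarith
    calc M ^ 2 * (9 * q ^ 4) ≤ 36 * k ^ 2 * d ^ 2 := mul_le_mul h3 h2 (by positivity) (by positivity)
      _ = _ := by ring
  have e3 : M ^ 2 / (k * d ^ 2) * q ^ 3 ≤ 4 / 5 := by
    refine (mul_le_mul_of_nonneg_right h1 (by positivity)).trans ?_
    rw [show 36 * k / (9 * q ^ 4) * q ^ 3 = 4 * k / q by field_simp; ring, div_le_iff₀ hq0]
    linarith
  linarith

open Classical in
/-- The square of a class centralised by a Singer torus covers everything. -/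
theorem cover_singer (hm : 1 ≤ m) {x : GR} (hx1 : x ≠ 1)
    (hT : IsSix (Subgroup.centralizer {x})) (hd : Nat.card (Subgroup.centralizer {x}) ∣ nA m)
    (hn : SingerCard m (Nat.card (Subgroup.centralizer {x}))) {g : GR} (hg : g ≠ 1) :
    ∃ u v : GR, g = (u * x * u⁻¹) * (v * x * v⁻¹) := by
  set T := Subgroup.centralizer {x} with hTdef
  set n := Nat.card T with hndef
  have hxT : x ∈ T := Subgroup.mem_centralizer_singleton_iff.2 rfl
  have hq := le_qq hm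
  have hqR : (27 : ℝ) ≤ (qq m : ℝ) := by exact_mod_cast hq
  obtain ⟨hAA, hA9, hA3, hcases⟩ := arith_facts (m := m) hm
  have hnlt : (n : ℤ) < 2 * (qq m : ℤ) - 2 := by
    rcases hn with h | h <;> omega
  have hnR : (n : ℝ) < 2 * (qq m : ℝ) - 2 := by exact_mod_cast hnlt
  set D : ℝ := (qq m : ℝ) * ((qq m : ℝ) - 1) with hD
  have hD0 : 0 < D := mul_pos (by linarith) (by linarith)
  have hdegD : ∀ χ : Cfsg.IrrCharacter GR, χ ≠ triv GR → D ≤ deg χ := fun χ hχ => by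
    have := le_deg_int hK hm hχ
    have h2 : (((qq m : ℤ) * ((qq m : ℤ) - 1) : ℤ) : ℝ) ≤ (((deg χ : ℕ) : ℤ) : ℝ) := by
      exact_mod_cast this
    push_cast at h2
    simpa [hD] using h2
  by_cases hin : ∃ y : GR, y⁻¹ * g * y ∈ T
  · obtain ⟨y, hy⟩ := hin
    have hy1 : y⁻¹ * g * y ≠ 1 := fun e => hg (by
      have h2 := congrArg (fun z => y * z * y⁻¹) e
      simpa [mul_assoc] using h2)
    have hcg : Nat.card (Subgroup.centralizer {g}) = n := by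
      rw [← card_centralizer_of_isConj (isConj_iff.2 ⟨y⁻¹, by group⟩ : IsConj g (y⁻¹ * g * y)),
        hT.cent _ hy hy1]
    refine exists_prod_of_bound (D := D) (M := (n : ℝ)) (N := (qq m : ℝ) / 2) hD0 hdegD ?_
      (by positivity) le_rfl ?_
    · rw [hcg]; nlinarith
    · rw [hD]; nlinarith
  push Not at hin
  obtain ⟨St, hStd, hStne, hStv⟩ := exists_steinberg hK (K := K) (m := m)
  obtain ⟨S, ε, c, hε, hcard, hS3, hc, hc7, hsub, hsame, -, hdvd, hat⟩ :=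
    exists_family hK hm hT hd hn hStd hStne hStv
  obtain ⟨hStx, s, hs0, hs4, hsR, hsS⟩ := hat x hxT hx1
  obtain ⟨χ₀, hχ₀⟩ : S.Nonempty := Finset.card_pos.1 (by omega)
  have hsd : ∀ χ ∈ S, deg χ = deg χ₀ := fun χ hχ => by
    have h := hsame χ hχ χ₀ hχ₀ 1 (Or.inl rfl)
    rw [char_one, char_one] at h
    exact_mod_cast h
  set d₀ : ℝ := (deg χ₀ : ℝ) with hd₀
  have hd₀0 : 0 < d₀ := by rw [hd₀]; exact_mod_cast deg_pos χ₀
  set M : ℝ := (n : ℝ) - 2 - s with hM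
  have hM0 : 0 ≤ M := by
    have h : 0 ≤ ∑ χ ∈ S, ‖(χ : GR → ℂ) x‖ ^ 2 := Finset.sum_nonneg fun _ _ => by positivity
    rw [hsS] at h
    exact h
  have hk0 : (0 : ℝ) < S.card := by exact_mod_cast (show 0 < S.card by omega)
  set R := ((Finset.univ.erase (triv GR)).erase St) \ S with hR
  refine exists_prod_of_sum_lt ?_
  -- the weights
  let w : Cfsg.IrrCharacter GR → ℝ := fun χ =>
    if χ ∈ S then M / ((S.card : ℝ) * d₀) else ‖(χ : GR → ℂ) x‖ ^ 2 / deg χ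
  have hE : Finset.univ.erase (triv GR) = insert St (R ∪ S) := by
    rw [hR, Finset.sdiff_union_of_subset hsub,
      Finset.insert_erase (Finset.mem_erase.2 ⟨hStne, Finset.mem_univ _⟩)]
  have hStS : St ∉ R ∪ S := by
    rw [hR, Finset.sdiff_union_of_subset hsub]
    exact Finset.notMem_erase _ _
  have hStS' : St ∉ S := fun h => hStS (Finset.mem_union_right _ h)
  have hdisj : Disjoint R S := Finset.sdiff_disjoint
  have hRS : ∀ χ ∈ R, χ ∉ S := fun χ hχ => (Finset.mem_sdiff.1 hχ).2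
  have hsum : ∑ χ ∈ Finset.univ.erase (triv GR),
      ‖(χ : GR → ℂ) x‖ ^ 2 * ‖(χ : GR → ℂ) g‖ / (deg χ : ℝ) =
      ∑ χ ∈ Finset.univ.erase (triv GR), w χ * ‖(χ : GR → ℂ) g‖ := by
    rw [hE, Finset.sum_insert hStS, Finset.sum_insert hStS, Finset.sum_union hdisj,
      Finset.sum_union hdisj]
    congr 1
    · simp only [w, if_neg hStS', mul_div_right_comm]
    congr 1
    · exact Finset.sum_congr rfl fun χ hχ => by simp only [w, if_neg (hRS χ hχ), mul_div_right_comm]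
    · have hv : ∀ χ ∈ S, ‖(χ : GR → ℂ) g‖ = ‖(χ₀ : GR → ℂ) g‖ := fun χ hχ => by
        rw [hsame χ hχ χ₀ hχ₀ g (Or.inr hin)]
      rw [Finset.sum_congr rfl (g := fun χ : Cfsg.IrrCharacter GR =>
          ‖(χ : GR → ℂ) x‖ ^ 2 * (‖(χ₀ : GR → ℂ) g‖ / d₀)) fun χ hχ => by
            rw [hv χ hχ, hsd χ hχ, mul_div_assoc], ← Finset.sum_mul, hsS,
        Finset.sum_congr rfl (g := fun _ => M / ((S.card : ℝ) * d₀) * ‖(χ₀ : GR → ℂ) g‖)
          fun χ hχ => by rw [hv χ hχ]; simp only [w, if_pos hχ],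
        Finset.sum_const, nsmul_eq_mul]
      exact scale_one hk0.ne'
  rw [hsum]
  have hCS := Finset.sum_mul_sq_le_sq_mul_sq (Finset.univ.erase (triv GR)) w
    fun χ : Cfsg.IrrCharacter GR => ‖(χ : GR → ℂ) g‖
  have hCg : ∑ χ ∈ Finset.univ.erase (triv GR), ‖(χ : GR → ℂ) g‖ ^ 2 ≤ (qq m : ℝ) ^ 3 :=
    (sum_norm_sq_le _ g).trans (by exact_mod_cast card_centralizer_le_cube hK hm hg)
  have hW : ∑ χ ∈ Finset.univ.erase (triv GR), w χ ^ 2 ≤
      (1 / (qq m : ℝ) ^ 3) ^ 2 + (s / D) ^ 2 + M ^ 2 / ((S.card : ℝ) * d₀ ^ 2) := by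
    rw [hE, Finset.sum_insert hStS, Finset.sum_union hdisj, ← add_assoc]
    refine add_le_add (add_le_add (le_of_eq ?_) ?_) (le_of_eq ?_)
    · have e : w St = 1 / (qq m : ℝ) ^ 3 := by
        show (if St ∈ S then _ else ‖(St : GR → ℂ) x‖ ^ 2 / (deg St : ℝ)) = _
        rw [if_neg hStS', hStx, hStd, one_pow, Nat.cast_pow]
      rw [e]
    · have hnn : ∀ χ ∈ R, 0 ≤ w χ := fun χ hχ => by
        simp only [w, if_neg (hRS χ hχ)]
        positivity
      refine (sum_sq_le_sq_sum R w hnn).trans (pow_le_pow_left₀ (Finset.sum_nonneg hnn) ?_ 2)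
      rw [← hsR, Finset.sum_div]
      refine Finset.sum_le_sum fun χ hχ => ?_
      simp only [w, if_neg (hRS χ hχ)]
      exact div_le_div_of_nonneg_left (by positivity) hD0
        (hdegD χ (Finset.ne_of_mem_erase (Finset.mem_of_mem_erase (Finset.mem_sdiff.1 hχ).1)))
    · rw [Finset.sum_congr rfl (g := fun _ => (M / ((S.card : ℝ) * d₀)) ^ 2)
        fun χ hχ => by simp only [w, if_pos hχ], Finset.sum_const, nsmul_eq_mul]
      exact scale_two hk0.ne'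
  obtain ⟨hbig, h37, h19⟩ :=
    family_deg hK hm hT hd hn hStd hStne hStv hε hcard hS3 hc hc7 hsub hsame hdvd hχ₀
  have hkR : (n : ℝ) = 6 * (S.card : ℝ) + 1 := by
    exact_mod_cast hcard
  have hfinal : ((1 / (qq m : ℝ) ^ 3) ^ 2 + (s / D) ^ 2 + M ^ 2 / ((S.card : ℝ) * d₀ ^ 2)) *
      (qq m : ℝ) ^ 3 < 1 := by
    rcases eq_or_lt_of_le hm with hm1 | hm2
    · obtain rfl : m = 1 := hm1.symm
      have hq27 : ((qq 1 : ℕ) : ℝ) = 27 := by norm_num [qq]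
      have hq27' : ((qq 1 : ℕ) : ℤ) = 27 := by norm_num [qq]
      have hn' : (n : ℤ) = 19 ∨ (n : ℤ) = 37 := by
        rcases hn with h | h <;> rw [h, hq27'] <;> norm_num
      rw [hD, hq27]
      refine final_small hs0 hs4 hM0 hM hkR ?_
      rcases hn' with h | h
      · exact Or.inl ⟨by exact_mod_cast h, by
          have := h19 rfl (by exact_mod_cast h)
          rw [hd₀]; exact_mod_cast this⟩
      · exact Or.inr ⟨by exact_mod_cast h, by
          have := h37 rfl (by exact_mod_cast h)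
          rw [hd₀]; exact_mod_cast this⟩
    · have hqA := hcases.resolve_left (by omega)
      have h243 : (243 : ℤ) ≤ (qq m : ℤ) := by omega
      have hn9 : 9 * (n : ℤ) ≤ 10 * (qq m : ℤ) + 9 := by
        rcases hn with h | h <;> omega
      rw [hD]
      refine final_big (n := (n : ℝ)) (by exact_mod_cast h243) hs0 hs4 hM0 hM hkR hk0
        (by exact_mod_cast hn9) ?_
      have := hbig (by omega)
      rw [hd₀]; exact_mod_cast this
  have hsq : (∑ χ ∈ Finset.univ.erase (triv GR), w χ * ‖(χ : GR → ℂ) g‖) ^ 2 < 1 :=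
    lt_of_le_of_lt (hCS.trans (mul_le_mul hW hCg (Finset.sum_nonneg fun _ _ => sq_nonneg _)
      (le_trans (Finset.sum_nonneg fun _ _ => sq_nonneg _) hW))) hfinal
  exact (abs_lt.1 ((sq_lt_one_iff_abs_lt_one _).1 hsq)).2

end CfsgLib.ReeCover
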