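import Cfsg.Agent.ReeCover.Chars

/-!
Squares of the classes of elements centralised by tori of order `q ± 1`.
-/

set_option autoImplicit false
set_option linter.unusedSectionVars false
set_option linter.style.haveILetI false
set_option synthInstance.maxHeartbeats 200000

namespace CfsgLib.ReeCover

open Cfsg.Lie CfsgLib.Chevalley CfsgLib.ReeG2 CfsgLib.ReeG2Tori CfsgLib.Characters
open scoped MatrixGroups ComplexConjugate

section Group

variable {H : Type*} [Group H]

theorem prod_conj {x g h : H} (hp : ∃ u v : H, g = (u * x * u⁻¹) * (v * x * v⁻¹))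
    (hgh : IsConj g h) : ∃ u v : H, h = (u * x * u⁻¹) * (v * x * v⁻¹) := by
  obtain ⟨u, v, rfl⟩ := hp
  obtain ⟨c, rfl⟩ := isConj_iff.1 hgh
  exact ⟨c * u, c * v, by group⟩

theorem prod_of_conj_left {x y g : H} (hxy : IsConj x y)
    (hp : ∃ u v : H, g = (u * y * u⁻¹) * (v * y * v⁻¹)) :
    ∃ u v : H, g = (u * x * u⁻¹) * (v * x * v⁻¹) := by
  obtain ⟨u, v, rfl⟩ := hp
  obtain ⟨c, rfl⟩ := isConj_iff.1 hxy
  exact ⟨u * c, v * c, by group⟩

end Group

variable {K : Type*} [Field K] [CharP K 3] [Finite K] {m : ℕ}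
  (hK : Nat.card K = 3 ^ (2 * m + 1))
include hK

set_option quotPrecheck false in
local notation "GR" => ↥(Tw K m)

theorem not_conj_Bor {g : GR} {ℓ : ℕ} (hℓ : ℓ.Prime) (hd : ℓ ∣ orderOf g) (h3 : ℓ ≠ 3)
    (h1 : ¬ ℓ ∣ qq m - 1) (x : GR) : x⁻¹ * g * x ∉ Bor K m := by
  intro h
  have h2 := Subgroup.orderOf_dvd_natCard _ h
  have e := orderOf_conj x⁻¹ g
  rw [inv_inv] at e
  rw [e] at h2
  rcases card_Bor_dvd hK hℓ (hd.trans h2) with h4 | h4
  · exact h3 h4
  · exact h1 h4

variable [Fintype ↥(Tw K m)]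

/-- The value on the central elements as a real number. -/
theorem central_re (χ : Cfsg.IrrCharacter GR) :
    ∃ a j : ℕ, (deg χ : ℝ) = a + (qq m : ℝ) * ((qq m : ℝ) - 1) * j ∧
      ((χ : GR → ℂ) (wU m (0, 0, 1))).re = (a : ℝ) - (qq m : ℝ) * j ∧
      ((a : ℝ) - (qq m : ℝ) * j) ^ 2 ≤ (qq m : ℝ) ^ 3 ∧
      -(a : ℝ) / ((qq m : ℝ) - 1) ≤ ((χ : GR → ℂ) (wU m ((0, 1, 0) : K × K × K))).re := by
  obtain ⟨a, j, hd, hv, hb⟩ := exists_decomp hK χ
  have hv' : ((χ : GR → ℂ) (wU m (0, 0, 1))).re = (a : ℝ) - (qq m : ℝ) * j := by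
    rw [hv, ← Nat.cast_mul, Complex.sub_re, Complex.natCast_re, Complex.natCast_re, Nat.cast_mul]
  refine ⟨a, j, ?_, hv', ?_, hb 1 one_ne_zero⟩
  · rw [hd, Nat.cast_add, Nat.cast_mul, Nat.cast_mul, Nat.cast_sub (one_lt_qq (m := m)).le,
      Nat.cast_one]
  · have h1 := norm_sq_le χ (wU m ((0, 0, 1) : K × K × K))
    have h2 : (Nat.card (Subgroup.centralizer {wU m ((0, 0, 1) : K × K × K)}) : ℝ) ≤ (qq m : ℝ) ^ 3 := by
      exact_mod_cast card_centralizer_central hK one_ne_zero
    rw [← hv', ← sq_abs]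
    exact le_trans (pow_le_pow_left₀ (abs_nonneg _) (Complex.abs_re_le_norm _) 2) (h1.trans h2)

/-- The product of two conjugates can be an involution. -/
theorem prod_involution (hm : 1 ≤ m) {x : GR} {y : SL(2, K)}
    (ht : (y : Matrix (Fin 2) (Fin 2) K).trace ^ 2 ≠ 4)
    (hx : x = psiT y ∨ x = ReeG2Sylow.aT K m * psiT y) :
    IsConj x x⁻¹ ∧ ∃ u v : GR, ReeG2Sylow.aT K m = (u * x * u⁻¹) * (v * x * v⁻¹) := by
  haveI := Fintype.ofFinite K
  set a : GR := ReeG2Sylow.aT K m with ha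
  have haa : a * a = 1 := ReeG2Sylow.aT_mul_self
  obtain ⟨e, he, hee, hec, rfl⟩ : ∃ e : GR, (e = 1 ∨ e = a) ∧ e * e = 1 ∧
      (∀ z : SL(2, K), Commute e (psiT z)) ∧ x = e * psiT y := by
    rcases hx with h | h
    · exact ⟨1, Or.inl rfl, one_mul 1, fun z => Commute.one_left _, by rw [h, one_mul]⟩
    · exact ⟨a, Or.inr rfl, haa, fun z => aT_comm_psiT z, h⟩
  have lift : ∀ z : SL(2, K), IsConj y z → IsConj (e * psiT y) (e * psiT z) := by
    intro z hz
    obtain ⟨c, rfl⟩ := isConj_iff.1 hz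
    refine isConj_iff.2 ⟨psiT c, ?_⟩
    rw [map_mul, map_mul, map_inv, ← mul_assoc, ← (hec c).eq]
    group
  refine ⟨?_, ?_⟩
  · rw [mul_inv_rev, ← map_inv, inv_eq_of_mul_eq_one_right hee, ← (hec _).eq]
    refine lift _ (SL2Trace.isConj_of_trace_eq y y⁻¹ ?_ ht)
    rw [Matrix.SpecialLinearGroup.coe_inv, Matrix.adjugate_fin_two, Matrix.trace_fin_two,
      Matrix.trace_fin_two]
    simp [add_comm]
  · set t := (y : Matrix (Fin 2) (Fin 2) K).trace with htdef
    have h4 : (0 : K) ^ 2 ≠ 4 := by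
      rw [zero_pow two_ne_zero]
      intro h
      exact one_ne_zero (α := K) (by
        have h3 : (3 : K) = 0 := by exact_mod_cast CharP.cast_eq_zero K 3
        linear_combination -h - h3)
    obtain ⟨X, hX, hY⟩ := SL2Trace.exists_pair_companion (0 : K) t t (Or.inl h4)
    obtain ⟨u, hu⟩ := isConj_iff.1 (lift X (SL2Trace.isConj_of_trace_eq y X hX.symm ht))
    obtain ⟨v, hv⟩ := isConj_iff.1
      (lift (X⁻¹ * SL2Trace.companion 0) (SL2Trace.isConj_of_trace_eq y _ hY.symm ht))
    have hC1 : psiT (m := m) (SL2Trace.companion (0 : K)) ≠ 1 := by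
      rw [Ne, psiT_eq_one_iff hK]
      rintro (h | h) <;>
      · have := congrArg (fun M : SL(2, K) => (M : Matrix (Fin 2) (Fin 2) K) 1 0) h
        simp [SL2Trace.companion] at this
    have hC2 : psiT (m := m) (SL2Trace.companion (0 : K)) * psiT (SL2Trace.companion (0 : K)) = 1 := by
      rw [← map_mul, psiT_eq_one_iff hK]
      refine Or.inr (Subtype.ext ?_)
      rw [Matrix.SpecialLinearGroup.coe_mul, Matrix.SpecialLinearGroup.coe_neg,
        Matrix.SpecialLinearGroup.coe_one]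
      ext i j
      fin_cases i <;> fin_cases j <;> simp [SL2Trace.companion, Matrix.mul_apply]
    obtain ⟨g, hg⟩ := isConj_aT hK hm hC1 hC2
    refine prod_conj ⟨u, v, ?_⟩ (IsConj.symm (isConj_iff.2 ⟨g, hg⟩))
    rw [hu, hv, map_mul, map_inv]
    calc psiT (SL2Trace.companion 0)
        = e * e * (psiT X * ((psiT X)⁻¹ * psiT (SL2Trace.companion 0))) := by rw [hee]; group
      _ = e * (e * psiT X) * ((psiT X)⁻¹ * psiT (SL2Trace.companion 0)) := by group
      _ = e * psiT X * e * ((psiT X)⁻¹ * psiT (SL2Trace.companion 0)) := by rw [mul_assoc e (psiT X) e, ← (hec X).eq]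
      _ = _ := by group

/-- The square of a class centralised by a torus of order `q ± 1` covers everything. -/
theorem cover_even (hm : 1 ≤ m) {x : GR} (hx2 : x * x ≠ 1) (hx3 : ¬ 3 ∣ orderOf x)
    (hc : Nat.card (Subgroup.centralizer {x}) = qq m - 1 ∨
      Nat.card (Subgroup.centralizer {x}) = qq m + 1)
    {g : GR} (hg : g ≠ 1) : ∃ u v : GR, g = (u * x * u⁻¹) * (v * x * v⁻¹) := by
  classical
  have hq := le_qq hm
  have h8 := qq_mod_eight (m := m)
  obtain ⟨h₀, y, ht, hy⟩ := exists_conj_psiT hK hm hx2 hx3 (by omega)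
  obtain ⟨hreal', hinv⟩ := prod_involution hK hm ht hy
  have hxx : IsConj x (h₀ * x * h₀⁻¹) := isConj_iff.2 ⟨h₀, rfl⟩
  have hreal : IsConj x x⁻¹ :=
    hxx.trans (hreal'.trans (isConj_iff.2 ⟨h₀⁻¹, by group⟩))
  set N := Nat.card (Subgroup.centralizer {x}) with hN
  have hqR : (27 : ℝ) ≤ (qq m : ℝ) := by exact_mod_cast hq
  have hq1 : (0 : ℝ) < (qq m : ℝ) - 1 := by linarith
  have hNR : (N : ℝ) ≤ (qq m : ℝ) + 1 := by
    exact_mod_cast (show N ≤ qq m + 1 by omega)
  have hmass := sum_norm_sq_erase (G := GR) x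
  rw [← hN] at hmass
  rcases element_cases hK hm hg with ⟨c, rfl⟩ | hz | hb | hsmall
  · exact prod_conj (prod_of_conj_left hxx hinv) (isConj_iff.2 ⟨c, rfl⟩)
  · refine prod_conj (exists_prod_of_re_pos hreal ?_) hz
    choose a j hdeg hv hv2 hb using central_re hK (m := m)
    have hterm : ∀ χ : Cfsg.IrrCharacter GR,
        ((χ : GR → ℂ) (wU m (0, 0, 1))).re / (deg χ : ℝ) =
          -1 / ((qq m : ℝ) - 1) + (qq m : ℝ) / ((qq m : ℝ) - 1) * ((a χ : ℝ) / deg χ) := by
      intro χ
      have hd0 : (0 : ℝ) < deg χ := by exact_mod_cast deg_pos χ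
      rw [hv]
      field_simp
      linear_combination hdeg χ
    simp only [hterm, mul_add, Finset.sum_add_distrib, ← Finset.sum_mul, hmass]
    set S := ∑ χ ∈ Finset.univ.erase (triv GR), ‖(χ : GR → ℂ) x‖ ^ 2 *
      ((qq m : ℝ) / ((qq m : ℝ) - 1) * ((a χ : ℝ) / deg χ)) with hS
    have hS0 : ∀ χ ∈ Finset.univ.erase (triv GR), 0 ≤ ‖(χ : GR → ℂ) x‖ ^ 2 *
      ((qq m : ℝ) / ((qq m : ℝ) - 1) * ((a χ : ℝ) / deg χ)) := fun χ _ => by positivity
    rcases hc with e | e
    · have hSnn : 0 ≤ S := Finset.sum_nonneg hS0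
      have eR : (N : ℝ) = (qq m : ℝ) - 1 := by
        rw [e, Nat.cast_sub (by omega), Nat.cast_one]
      rw [eR]
      have : -1 < ((qq m : ℝ) - 1 - 1) * (-1 / ((qq m : ℝ) - 1)) := by
        rw [mul_div_assoc', lt_div_iff₀ hq1]
        linarith
      linarith
    · have eR : (N : ℝ) = (qq m : ℝ) + 1 := by rw [e]; push_cast; rfl
      rw [eR]
      -- a prime divisor of the order keeps `x` out of the Borel subgroup
      obtain ⟨ℓ, k, hℓ, hℓ2, hℓd, -⟩ := exists_prime_power hK hx2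
      have hℓT : ℓ ∣ qq m + 1 := e ▸ hℓd.trans (Subgroup.orderOf_dvd_natCard _
        (Subgroup.mem_centralizer_singleton_iff.2 rfl))
      have hout := not_conj_Bor hK hℓ hℓd (fun e => three_not_dvd (Or.inr rfl) (e ▸ hℓT))
        (fun h => not_dvd_add_of_sub hℓ hℓ2 h hℓT)
      obtain ⟨St, hStd, hStne, hStv⟩ := exists_steinberg hK (K := K) (m := m)
      have hStx : (St : GR → ℂ) x = -1 := by rw [hStv, piChar_eq_zero hK hout, zero_sub]
      have hqd : (qq m : ℝ) ^ 2 * (qq m : ℝ) = deg St := by rw [hStd]; push_cast; ring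
      have hStz : (0 : ℝ) ≤ (a St : ℝ) - (qq m : ℝ) * j St := by
        rw [← hv, hStv, Complex.sub_re, Complex.one_re, sub_nonneg]
        exact one_le_piChar hK (Usub_le (wU_mem _))
      have hSta : 1 / (qq m : ℝ) ≤ (a St : ℝ) / deg St := by
        have hd0 : (0 : ℝ) < deg St := by exact_mod_cast deg_pos St
        rw [div_le_div_iff₀ (by linarith) hd0, hdeg St]
        nlinarith
      -- another constituent
      obtain ⟨χ₁, hχ₁, hχ₁x, hχ₁a⟩ : ∃ χ ∈ (Finset.univ.erase (triv GR)).erase St,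
          (χ : GR → ℂ) x ≠ 0 ∧ a χ ≠ 0 := by
        by_contra hno
        push Not at hno
        have h0 := sum_degree_mul (G := GR) x
        rw [if_neg (fun e : x = 1 => hx2 (by rw [e, one_mul])),
          ← Finset.add_sum_erase _ _ (Finset.mem_univ (triv GR)),
          ← Finset.add_sum_erase _ _ (Finset.mem_erase.2 ⟨hStne, Finset.mem_univ St⟩),
          triv_apply, triv_apply, hStx, char_one, hStd] at h0
        have h3 : ∀ χ ∈ (Finset.univ.erase (triv GR)).erase St, ∃ z : ℂ, IsIntegral ℤ z ∧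
            (χ : GR → ℂ) 1 * (χ : GR → ℂ) x = 3 * z := by
          intro χ hχ
          by_cases hx0 : (χ : GR → ℂ) x = 0
          · exact ⟨0, isIntegral_zero, by rw [hx0, mul_zero, mul_zero]⟩
          obtain ⟨r, hr⟩ : 3 ∣ deg χ := by
            have hd := hdeg χ
            rw [hno χ hχ hx0] at hd
            have hd' : deg χ = qq m * (qq m - 1) * j χ := by
              refine Nat.cast_injective (R := ℝ) ?_
              rw [hd, Nat.cast_mul, Nat.cast_mul, Nat.cast_sub (by omega)]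
              push_cast; ring
            rw [hd']
            exact dvd_mul_of_dvd_left (dvd_mul_of_dvd_left three_dvd_qq _) _
          refine ⟨(r : ℂ) * (χ : GR → ℂ) x, (isIntegral_natCast r).mul
            (character_isIntegral (isCharacter_of_isIrr χ.2) x), ?_⟩
          rw [char_one, hr]
          push_cast; ring
        choose! z hzI hz3 using h3
        rw [Finset.sum_congr rfl hz3, ← Finset.mul_sum] at h0
        obtain ⟨q', hq'⟩ := three_dvd_qq (m := m)
        have h1 : (((1 : ℕ) : ℂ) / ((3 : ℕ) : ℂ)) = (q' : ℂ) * (qq m : ℂ) * (qq m : ℂ) -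
            ∑ χ ∈ (Finset.univ.erase (triv GR)).erase St, z χ := by
          have e3 : ((qq m : ℕ) : ℂ) = 3 * (q' : ℂ) := by rw [hq']; push_cast; ring
          have h0' : (1 : ℂ) - (qq m : ℂ) ^ 3 +
              3 * ∑ χ ∈ (Finset.univ.erase (triv GR)).erase St, z χ = 0 := by
            rw [Nat.cast_pow] at h0
            linear_combination h0
          rw [div_eq_iff (by norm_num)]
          simp only [Nat.cast_ofNat, Nat.cast_one]
          rw [e3] at h0' ⊢
          linear_combination h0'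
        have hint : IsIntegral ℤ (((1 : ℕ) : ℂ) / ((3 : ℕ) : ℂ)) := by
          rw [h1]
          exact (((isIntegral_natCast q').mul (isIntegral_natCast _)).mul (isIntegral_natCast _)).sub
            (IsIntegral.sum _ hzI)
        have := dvd_of_isIntegral_div (by norm_num) hint
        omega
      have hgt : (qq m : ℝ) / ((qq m : ℝ) - 1) * (1 / (qq m : ℝ)) < S := by
        have hsub : ({St, χ₁} : Finset (Cfsg.IrrCharacter GR)) ⊆ Finset.univ.erase (triv GR) := by
          intro χ hχ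
          simp only [Finset.mem_insert, Finset.mem_singleton] at hχ
          rcases hχ with rfl | rfl
          · exact Finset.mem_erase.2 ⟨hStne, Finset.mem_univ _⟩
          · exact Finset.mem_of_mem_erase hχ₁
        refine lt_of_lt_of_le ?_ (Finset.sum_le_sum_of_subset_of_nonneg hsub fun χ hχ _ => hS0 χ hχ)
        rw [Finset.sum_pair (Finset.ne_of_mem_erase hχ₁).symm, hStx, norm_neg, norm_one, one_pow,
          one_mul]
        refine lt_add_of_le_of_pos (mul_le_mul_of_nonneg_left hSta (by positivity)) ?_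
        have h1 : (0 : ℝ) < a χ₁ := by exact_mod_cast Nat.pos_of_ne_zero hχ₁a
        have h2 : (0 : ℝ) < deg χ₁ := by exact_mod_cast deg_pos χ₁
        have h3 : 0 < ‖(χ₁ : GR → ℂ) x‖ := norm_pos_iff.2 hχ₁x
        positivity
      have : 1 + ((qq m : ℝ) + 1 - 1) * (-1 / ((qq m : ℝ) - 1)) +
          (qq m : ℝ) / ((qq m : ℝ) - 1) * (1 / (qq m : ℝ)) = 0 := by
        field_simp
        ring
      linarith
  · have hgoal : 0 < 1 + ∑ χ ∈ Finset.univ.erase (triv GR), ‖(χ : GR → ℂ) x‖ ^ 2 *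
        (((χ : GR → ℂ) g).re / (deg χ : ℝ)) := by
      have hge : ∀ χ ∈ Finset.univ.erase (triv GR), ‖(χ : GR → ℂ) x‖ ^ 2 *
          (-(1 / (qq m : ℝ) + 1 / 5) / ((qq m : ℝ) - 1)) ≤
          ‖(χ : GR → ℂ) x‖ ^ 2 * (((χ : GR → ℂ) g).re / (deg χ : ℝ)) := by
        intro χ hχ
        refine mul_le_mul_of_nonneg_left ?_ (by positivity)
        obtain ⟨a, j, hdeg, hv, hv2, hb'⟩ := central_re hK χ
        have hre : -(a : ℝ) / ((qq m : ℝ) - 1) ≤ ((χ : GR → ℂ) g).re := by
          rcases hb with h | h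
          · rw [← classFunction_isConj (isClassFunction_of_isIrr χ.2) h]; exact hb'
          · rw [← classFunction_isConj (isClassFunction_of_isIrr χ.2) h, char_inv, Complex.conj_re]
            exact hb'
        have hd0 : (0 : ℝ) < deg χ := by exact_mod_cast deg_pos χ
        have hD : (qq m : ℝ) * ((qq m : ℝ) - 1) ≤ deg χ := by
          have := le_deg hK hm (Finset.ne_of_mem_erase hχ)
          rw [← Nat.cast_le (α := ℝ), Nat.cast_mul, Nat.cast_sub (by omega), Nat.cast_one] at this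
          exact this
        set v := (a : ℝ) - (qq m : ℝ) * j with hvdef
        have hv5 : v ≤ (qq m : ℝ) ^ 2 / 5 := by nlinarith
        have ha5 : (a : ℝ) / deg χ ≤ 1 / (qq m : ℝ) + 1 / 5 := by
          have hqa : (qq m : ℝ) * a = deg χ + ((qq m : ℝ) - 1) * v := by
            rw [hdeg, hvdef]; ring
          rw [div_le_iff₀ hd0]
          refine le_of_mul_le_mul_left ?_ (show (0 : ℝ) < qq m by linarith)
          rw [hqa, ← mul_assoc, mul_add, mul_one_div, div_self (by linarith)]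
          nlinarith
        calc -(1 / (qq m : ℝ) + 1 / 5) / ((qq m : ℝ) - 1)
            ≤ -((a : ℝ) / deg χ) / ((qq m : ℝ) - 1) :=
              div_le_div_of_nonneg_right (neg_le_neg ha5) hq1.le
          _ = -(a : ℝ) / ((qq m : ℝ) - 1) / deg χ := by
              rw [← neg_div, div_div, div_div, mul_comm (deg χ : ℝ)]
          _ ≤ _ := div_le_div_of_nonneg_right hre hd0.le
      refine lt_of_lt_of_le ?_ (add_le_add le_rfl (Finset.sum_le_sum hge))
      rw [← Finset.sum_mul, hmass]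
      have hlt : (qq m : ℝ) * ((1 / (qq m : ℝ) + 1 / 5) / ((qq m : ℝ) - 1)) < 1 := by
        rw [mul_div_assoc', div_lt_one hq1, mul_add, mul_one_div, div_self (by linarith)]
        linarith
      have hnn : 0 ≤ (1 / (qq m : ℝ) + 1 / 5) / ((qq m : ℝ) - 1) := by positivity
      have hmul : ((N : ℝ) - 1) * ((1 / (qq m : ℝ) + 1 / 5) / ((qq m : ℝ) - 1)) ≤
          (qq m : ℝ) * ((1 / (qq m : ℝ) + 1 / 5) / ((qq m : ℝ) - 1)) :=
        mul_le_mul_of_nonneg_right (by linarith) hnn
      rw [neg_div, mul_neg]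
      linarith
    exact exists_prod_of_re_pos hreal hgoal
  · refine exists_prod_of_bound (D := (qq m : ℝ) * ((qq m : ℝ) - 1)) (M := (qq m : ℝ) + 1)
      (N := (qq m : ℝ) / 2) (by positivity) (fun χ hχ => ?_) ?_ (by positivity) hNR ?_
    · have := le_deg hK hm hχ
      rw [← Nat.cast_le (α := ℝ), Nat.cast_mul, Nat.cast_sub (by omega), Nat.cast_one] at this
      exact this
    · have h4 : (4 : ℝ) * Nat.card (Subgroup.centralizer {g}) ≤ (qq m : ℝ) ^ 2 := by
        exact_mod_cast hsmall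
      linarith
    · nlinarith

end CfsgLib.ReeCover
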