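import Cfsg.Agent.ReeG2Tori.Singer
import Cfsg.Agent.ReeCover.Exceptional
import Cfsg.Agent.SL2Trace.Order

/-!
Conjugacy and centralisers in the small Ree group, as needed for products of two classes.
-/

set_option autoImplicit false
set_option linter.unusedSectionVars false
set_option linter.style.haveILetI false
set_option synthInstance.maxHeartbeats 200000

namespace CfsgLib.ReeCover

open Cfsg.Lie CfsgLib.Chevalley CfsgLib.ReeG2 CfsgLib.ReeG2Tori
open scoped MatrixGroups

variable {K : Type*} [Field K] [CharP K 3] [Finite K] {m : ℕ}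
  (hK : Nat.card K = 3 ^ (2 * m + 1))
include hK

set_option quotPrecheck false in
local notation "GR" => ↥(Tw K m)

theorem neg_sq_false {c : K} (hc : c * c = -1) : False :=
  ReeG2Sylow.neg_one_not_square hK ⟨c, hc.symm⟩

/-! ### The weights of the torus -/

theorem weight_two {B : Kˣ} (e : theta m (B : K) ^ 3 * B = 1) : B = 1 ∨ B = -1 := by
  have hθθ : theta m (theta m (B : K)) ^ 3 = B := theta_theta hK _
  have h2 : (B : K) * theta m (B : K) = 1 := by
    have := congrArg (theta m) e
    rwa [theta_mul, theta_pow, hθθ, theta_one] at this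
  have hθ0 : theta m (B : K) ≠ 0 := pow_ne_zero _ B.ne_zero
  have h4 : theta m (B : K) * theta m (B : K) = 1 := by
    refine mul_left_cancel₀ (mul_ne_zero hθ0 B.ne_zero) ?_
    rw [mul_one]
    linear_combination e - h2
  have h5 : (B : K) * B = 1 := by
    linear_combination -((B : K) * B) * h4 + (1 + (B : K) * theta m (B : K)) * h2
  rcases mul_self_eq_one_iff.1 h5 with h | h
  · exact Or.inl (Units.ext h)
  · exact Or.inr (Units.ext (by simpa using h))

theorem weight_three {B : Kˣ} (e : theta m (B : K) ^ 3 * B ^ 2 = 1) : B = 1 := by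
  have hθθ : theta m (theta m (B : K)) ^ 3 = B := theta_theta hK _
  have h2 : (B : K) * theta m (B : K) ^ 2 = 1 := by
    have := congrArg (theta m) e
    rwa [theta_mul, theta_pow, hθθ, theta_one, theta_pow] at this
  have h3 : theta m (B : K) ^ 6 * B ^ 3 = 1 := by
    linear_combination ((B : K) ^ 2 * theta m (B : K) ^ 4 + (B : K) * theta m (B : K) ^ 2 + 1) * h2
  have h4 : theta m (B : K) ^ 6 * B ^ 4 = 1 := by
    linear_combination (theta m (B : K) ^ 3 * B ^ 2 + 1) * e
  refine Units.ext ?_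
  calc (B : K) = theta m (B : K) ^ 6 * B ^ 3 * B := by rw [h3, one_mul]
    _ = 1 := by linear_combination h4

theorem exists_weight_three {c : K} (hc : c ≠ 0) :
    ∃ B : Kˣ, theta m (B : K) ^ 3 * B ^ 2 = c := by
  let f : Kˣ → {x : K // x ≠ 0} := fun B =>
    ⟨theta m (B : K) ^ 3 * B ^ 2,
      mul_ne_zero (pow_ne_zero _ (pow_ne_zero _ B.ne_zero)) (pow_ne_zero _ B.ne_zero)⟩
  have hinj : Function.Injective f := by
    intro B C h
    have h2 : theta m (B : K) ^ 3 * B ^ 2 = theta m (C : K) ^ 3 * C ^ 2 := congrArg Subtype.val h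
    refine (div_eq_one (a := B) (b := C)).1 (weight_three hK ?_)
    rw [Units.val_div_eq_div_val, div_eq_mul_inv, theta_mul, theta_inv]
    have hθC : theta m (C : K) ≠ 0 := pow_ne_zero _ C.ne_zero
    field_simp
    linear_combination h2
  have hsurj : Function.Surjective f := hinj.bijective_of_nat_card_le (by
    rw [← Nat.card_congr unitsEquivNeZero]) |>.2
  obtain ⟨B, hB⟩ := hsurj ⟨c, hc⟩
  exact ⟨B, congrArg Subtype.val hB⟩

theorem exists_weight_two {c : K} (hc : c ≠ 0) :
    ∃ B : Kˣ, theta m (B : K) ^ 3 * B = c ∨ theta m (B : K) ^ 3 * B = -c := by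
  classical
  let w : Kˣ → K := fun B => theta m (B : K) ^ 3 * B
  have hw0 : ∀ B, w B ≠ 0 := fun B => mul_ne_zero (pow_ne_zero _ (pow_ne_zero _ B.ne_zero)) B.ne_zero
  have hwsq : ∀ B, IsSquare (w B) := fun B => by
    refine ⟨(B : K) ^ ((3 ^ (m + 1) + 1) / 2), ?_⟩
    have h2 : 2 ∣ 3 ^ (m + 1) + 1 := by
      have : Odd (3 ^ (m + 1)) := Odd.pow (by decide)
      exact (this.add_odd odd_one).two_dvd
    rw [← pow_add, ← two_mul, Nat.mul_div_cancel' h2, pow_succ]
    simp only [w, theta, ← pow_mul]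
    congr 1
  have hwinj : ∀ B C, w B = w C → B = C ∨ B = -C := by
    intro B C h
    rcases weight_two hK (B := B / C) (by
      rw [Units.val_div_eq_div_val, div_eq_mul_inv, theta_mul, theta_inv]
      have hθC : theta m (C : K) ≠ 0 := pow_ne_zero _ C.ne_zero
      field_simp
      linear_combination h) with h1 | h1
    · exact Or.inl (div_eq_one.1 h1)
    · exact Or.inr (by rw [← div_mul_cancel B C, h1]; simp)
  let g : Kˣ → {x : K // x ≠ 0} := fun B =>
    ⟨if IsSquare (B : K) then w B else -w B, by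
      split_ifs
      exacts [hw0 B, neg_ne_zero.2 (hw0 B)]⟩
  have hmixed : ∀ B C, w B ≠ -w C := by
    intro B C h
    obtain ⟨b, hb⟩ := hwsq B
    obtain ⟨d, hd⟩ := hwsq C
    have hd0 : d ≠ 0 := fun e => hw0 C (by rw [hd, e, mul_zero])
    refine neg_sq_false hK (c := b / d) ?_
    field_simp
    linear_combination -hd - hb + h
  have hneg : ∀ B : Kˣ, IsSquare (B : K) → ¬ IsSquare ((-B : Kˣ) : K) := by
    rintro B ⟨b, hb⟩ ⟨d, hd⟩
    have hb0 : b ≠ 0 := fun e => B.ne_zero (by rw [hb, e, mul_zero])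
    refine neg_sq_false hK (c := d / b) ?_
    rw [Units.val_neg] at hd
    field_simp
    linear_combination -hb - hd
  have hinj : Function.Injective g := by
    intro B C h
    have h2 : (if IsSquare (B : K) then w B else -w B) = if IsSquare (C : K) then w C else -w C :=
      congrArg Subtype.val h
    by_cases hB : IsSquare (B : K) <;> by_cases hC : IsSquare (C : K)
    · rw [if_pos hB, if_pos hC] at h2
      refine (hwinj B C h2).resolve_right fun e => ?_
      exact hneg C hC (e ▸ hB)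
    · rw [if_pos hB, if_neg hC] at h2
      exact absurd h2 (hmixed B C)
    · rw [if_neg hB, if_pos hC] at h2
      exact absurd h2.symm (hmixed C B)
    · rw [if_neg hB, if_neg hC, neg_inj] at h2
      refine (hwinj B C h2).resolve_right fun e => ?_
      -- one of `C`, `-C` is a square
      haveI := Fintype.ofFinite K
      have h2' : ringChar K ≠ 2 := by rw [ringChar.eq K 3]; decide
      have hCn : quadraticChar K (C : K) = -1 := quadraticChar_neg_one_iff_not_isSquare.2 hC
      have hBn : quadraticChar K (B : K) = -1 := quadraticChar_neg_one_iff_not_isSquare.2 hB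
      have hm1 : quadraticChar K (-1 : K) = -1 :=
        quadraticChar_neg_one_iff_not_isSquare.2 (ReeG2Sylow.neg_one_not_square hK)
      rw [e, Units.val_neg, neg_eq_neg_one_mul, map_mul, hCn, hm1] at hBn
      norm_num at hBn
  obtain ⟨B, hB⟩ := (hinj.bijective_of_nat_card_le (by rw [← Nat.card_congr unitsEquivNeZero])).2
    ⟨c, hc⟩
  have h3 : (if IsSquare (B : K) then w B else -w B) = c := congrArg Subtype.val hB
  refine ⟨B, ?_⟩
  split_ifs at h3
  · exact Or.inl h3
  · exact Or.inr (by rw [← h3, neg_neg])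

/-! ### Conjugacy in `U` -/

/-- The standard central element. -/
theorem isConj_central {c : K} (hc : c ≠ 0) :
    IsConj (wU m ((0, 0, 1) : K × K × K)) (wU m (0, 0, c)) := by
  obtain ⟨B, hB⟩ := exists_weight_three hK hc
  refine isConj_iff.2 ⟨hT hK B, ?_⟩
  rw [hT_conj]
  simp [hB]

theorem wU_inv_b (b : K) : (wU m ((0, b, 0) : K × K × K))⁻¹ = wU m (0, -b, 0) := by
  refine inv_eq_of_mul_eq_one_right ?_
  rw [wU_mul hK, wU_eq_one_iff]
  simp [theta_zero]

/-- The elements of `U'` outside the centre form two classes, exchanged by inversion. -/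
theorem isConj_bType {b : K} (hb : b ≠ 0) (c : K) :
    IsConj (wU m ((0, 1, 0) : K × K × K)) (wU m (0, b, c)) ∨
      IsConj (wU m ((0, 1, 0) : K × K × K))⁻¹ (wU m (0, b, c)) := by
  have h1 : IsConj (wU m ((0, b, 0) : K × K × K)) (wU m (0, b, c)) := by
    refine isConj_iff.2 ⟨wU m (c / b, 0, 0), mul_inv_eq_iff_eq_mul.2 ?_⟩
    rw [wU_mul hK, wU_mul hK]
    congr 1
    refine Prod.ext ?_ (Prod.ext ?_ ?_) <;> simp [theta_zero]
    field_simp
    ring
  obtain ⟨B, hB | hB⟩ := exists_weight_two hK hb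
  · refine Or.inl (IsConj.trans (isConj_iff.2 ⟨hT hK B, ?_⟩) h1)
    rw [hT_conj]
    simp [hB]
  · refine Or.inr (IsConj.trans (isConj_iff.2 ⟨hT hK B, ?_⟩) h1)
    rw [wU_inv_b hK, hT_conj]
    simp [hB]

/-! ### Centralisers -/

omit hK in
theorem card_le_of_inj {H : Subgroup GR} {α : Type*} [Finite α] (f : H → α)
    (hf : Function.Injective f) : Nat.card H ≤ Nat.card α :=
  Nat.card_le_card_of_injective f hf

theorem centralizer_coords {p : K × K × K} (hp : p ≠ 0) {g : GR}
    (hg : g ∈ Subgroup.centralizer {wU m p}) :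
    ∃ v B, g = wU m v * hT hK B ∧
      wU m v * wU m ((B : K) * p.1, theta m (B : K) ^ 3 * B * p.2.1,
        theta m (B : K) ^ 3 * B ^ 2 * p.2.2) = wU m p * wU m v := by
  obtain ⟨v, B, rfl⟩ := (mem_Bor_iff hK).1
    (centralizer_le hK (wU_mem p) (fun e => hp (wU_eq_one_iff.1 e)) hg)
  refine ⟨v, B, rfl, ?_⟩
  rw [← hT_conj hK B p]
  have h := Subgroup.mem_centralizer_singleton_iff.1 hg
  calc wU m v * (hT hK B * wU m p * (hT hK B)⁻¹)
      = wU m v * hT hK B * wU m p * (hT hK B)⁻¹ := by group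
    _ = wU m p * wU m v := by rw [h]; group

theorem card_centralizer_central {c : K} (hc : c ≠ 0) :
    Nat.card (Subgroup.centralizer {wU m ((0, 0, c) : K × K × K)}) ≤ qq m ^ 3 := by
  have hp : ((0, 0, c) : K × K × K) ≠ 0 := fun e => hc (congrArg (fun x => x.2.2) e)
  rw [← natCard_Usub hK]
  refine Subgroup.card_le_of_le fun g hg => ?_
  obtain ⟨v, B, rfl, e⟩ := centralizer_coords hK hp hg
  rw [wU_mul hK, wU_mul hK] at e
  have h3 := congrArg (fun x : K × K × K => x.2.2) (wU_injective e)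
  simp [theta_zero] at h3
  have hB : B = 1 := weight_three hK (mul_right_cancel₀ hc (by linear_combination h3))
  rw [hB, map_one, mul_one]
  exact wU_mem v

theorem card_centralizer_bType {b : K} (hb : b ≠ 0) (c : K) :
    Nat.card (Subgroup.centralizer {wU m ((0, b, c) : K × K × K)}) ≤ 2 * qq m ^ 2 := by
  have hp : ((0, b, c) : K × K × K) ≠ 0 := fun e => hb (congrArg (fun x => x.2.1) e)
  choose v B hg hv using fun g : Subgroup.centralizer {wU m ((0, b, c) : K × K × K)} =>
    centralizer_coords hK hp g.2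
  have hB : ∀ g, B g = 1 ∨ B g = -1 := by
    intro g
    have e := hv g
    rw [wU_mul hK, wU_mul hK] at e
    have h2 := congrArg (fun x : K × K × K => x.2.1) (wU_injective e)
    simp [theta_zero] at h2
    exact weight_two hK (mul_right_cancel₀ hb (by linear_combination h2))
  have h1 : ∀ g, (v g).1 * b = c * (1 - theta m (B g : K) ^ 3 * (B g : K) ^ 2) := by
    intro g
    have e := hv g
    rw [wU_mul hK, wU_mul hK] at e
    have h3 := congrArg (fun x : K × K × K => x.2.2) (wU_injective e)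
    simp [theta_zero] at h3
    linear_combination h3
  refine (Nat.card_le_card_of_injective (β := {B : Kˣ // B = 1 ∨ B = -1} × K × K)
    (fun g => (⟨B g, hB g⟩, (v g).2.1, (v g).2.2)) fun g g' h => ?_).trans (le_of_eq ?_)
  · simp only [Prod.mk.injEq, Subtype.mk.injEq] at h
    obtain ⟨hBB, h2, h3⟩ := h
    refine Subtype.ext ?_
    rw [hg g, hg g', hBB]
    congr 2
    refine Prod.ext (mul_right_cancel₀ hb ?_) (Prod.ext h2 h3)
    have e := h1 g
    rw [hBB, ← h1 g'] at e
    exact e
  · rw [Nat.card_prod, Nat.card_prod, hK]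
    have : Nat.card {B : Kˣ // B = 1 ∨ B = -1} = 2 := by
      have hne : (1 : Kˣ) ≠ -1 := fun e => ReeG2Sylow.neg_one_ne_one (K := K) e.symm
      exact Nat.card_eq_two_iff.2 ⟨⟨1, Or.inl rfl⟩, ⟨-1, Or.inr rfl⟩,
        fun e => hne (congrArg Subtype.val e), Set.eq_univ_iff_forall.2 fun x => by
          rcases x.2 with h | h
          · exact Or.inl (Subtype.ext h)
          · exact Or.inr (Subtype.ext h)⟩
    rw [this]
    ring

theorem card_centralizer_nine {p : K × K × K} (hp : p.1 ≠ 0) :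
    Nat.card (Subgroup.centralizer {wU m p}) ≤ 3 * qq m := by
  obtain ⟨t, u, w⟩ := p
  dsimp only at hp
  have hp0 : ((t, u, w) : K × K × K) ≠ 0 := fun e => hp (congrArg (fun x => x.1) e)
  choose v B hg hv using fun g : Subgroup.centralizer {wU m ((t, u, w) : K × K × K)} =>
    centralizer_coords hK hp0 g.2
  have hB : ∀ g, B g = 1 := by
    intro g
    have e := hv g
    rw [wU_mul hK, wU_mul hK] at e
    have h1 := congrArg (fun x : K × K × K => x.1) (wU_injective e)
    simp at h1
    refine Units.ext ?_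
    rw [Units.val_one]
    exact mul_right_cancel₀ hp (by linear_combination h1)
  have hv1 : ∀ g, (v g).1 / t = 0 ∨ (v g).1 / t = 1 ∨ (v g).1 / t = -1 := by
    intro g
    have e := hv g
    rw [hB g, wU_mul hK, wU_mul hK] at e
    have h2 := congrArg (fun x : K × K × K => x.2.1) (wU_injective e)
    simp [theta_one] at h2
    set r := (v g).1 / t with hr
    have hrt : (v g).1 = r * t := by rw [hr, div_mul_cancel₀ _ hp]
    have hθt : theta m t ≠ 0 := pow_ne_zero _ hp
    rw [hrt, theta_mul] at h2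
    have h3 : theta m r ^ 3 = r :=
      mul_right_cancel₀ (mul_ne_zero (pow_ne_zero 3 hθt) hp) (by linear_combination h2)
    have h4 : theta m r = r := by
      have h5 : theta m (theta m r ^ 3) = theta m r := congrArg (theta m) h3
      rw [theta_pow, theta_theta hK] at h5
      exact h5.symm
    rw [h4] at h3
    rcases mul_eq_zero.1 (show r * ((r - 1) * (r + 1)) = 0 by linear_combination h3) with h | h
    · exact Or.inl h
    · rcases mul_eq_zero.1 h with h | h
      · exact Or.inr (Or.inl (sub_eq_zero.1 h))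
      · exact Or.inr (Or.inr (eq_neg_of_add_eq_zero_left h))
  refine (Nat.card_le_card_of_injective (β := {r : K // r = 0 ∨ r = 1 ∨ r = -1} × K)
    (fun g => (⟨(v g).1 / t, hv1 g⟩, (v g).2.2)) fun g g' h => ?_).trans ?_
  · simp only [Prod.mk.injEq, Subtype.mk.injEq] at h
    obtain ⟨h1, h3⟩ := h
    refine Subtype.ext ?_
    rw [hg g, hg g', hB g, hB g']
    congr 2
    have e1 : (v g).1 = (v g').1 := (div_left_inj' hp).1 h1
    refine Prod.ext e1 (Prod.ext (mul_left_cancel₀ hp ?_) h3)
    have e := hv g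
    rw [hB g, wU_mul hK, wU_mul hK] at e
    have a1 := congrArg (fun x : K × K × K => x.2.2) (wU_injective e)
    have e' := hv g'
    rw [hB g', wU_mul hK, wU_mul hK] at e'
    have a2 := congrArg (fun x : K × K × K => x.2.2) (wU_injective e')
    simp [theta_one, e1] at a1 a2
    linear_combination a2 - a1
  · rw [Nat.card_prod, hK]
    refine Nat.mul_le_mul_right _ ?_
    classical
    haveI := Fintype.ofFinite K
    rw [Nat.card_eq_fintype_card, Fintype.card_subtype]
    refine (Finset.card_le_card (t := {0, 1, -1}) fun x hx => ?_).trans Finset.card_le_three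
    simpa using hx

theorem card_centralizer_six {p : K × K × K} (h : p.2.1 ≠ theta m p.1 ^ 3 * p.1) :
    Nat.card (Subgroup.centralizer {wU m p * hT hK (-1)}) ≤ 2 * qq m := by
  obtain ⟨t, u, w⟩ := p
  dsimp only at h
  have h2 : (3 : K) = 0 := by exact_mod_cast CharP.cast_eq_zero K 3
  have e1 : ((-1 : Kˣ) : K) = -1 := by simp
  set g₀ : GR := wU m (t, u, w) * hT hK (-1) with hg₀
  have ha : hT hK (-1) * hT hK (-1) = (1 : GR) := by
    rw [← map_mul, neg_mul_neg, one_mul, map_one]
  obtain ⟨b', c', hb', hsq⟩ : ∃ b' c' : K, b' ≠ 0 ∧ g₀ * g₀ = wU m (0, b', c') := by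
    refine ⟨2 * u + theta m t ^ 3 * t, t * u + 2 * theta m t ^ 3 * t ^ 2, fun e =>
      h (by linear_combination (-1 : K) * e + u * h2), ?_⟩
    rw [hg₀, show wU m (t, u, w) * hT hK (-1) * (wU m (t, u, w) * hT hK (-1)) =
      wU m (t, u, w) * (hT hK (-1) * wU m (t, u, w) * (hT hK (-1))⁻¹) * (hT hK (-1) * hT hK (-1)) by
        group, hT_conj, ha, mul_one, wU_mul hK]
    congr 1
    refine Prod.ext ?_ (Prod.ext ?_ ?_) <;> simp only [e1, theta_neg, theta_one, theta_mul] <;> ring
  have hp : ((0, b', c') : K × K × K) ≠ 0 := fun e => hb' (congrArg (fun x => x.2.1) e)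
  have hle : ∀ g : Subgroup.centralizer {g₀}, ∃ v B, (g : GR) = wU m v * hT hK B ∧
      (B = 1 ∨ B = -1) := by
    intro g
    have hg : (g : GR) ∈ Subgroup.centralizer {wU m ((0, b', c') : K × K × K)} := by
      rw [← hsq, Subgroup.mem_centralizer_singleton_iff]
      have := Subgroup.mem_centralizer_singleton_iff.1 g.2
      rw [← mul_assoc, this, mul_assoc g₀, this, ← mul_assoc]
    obtain ⟨v, B, hvB, hv⟩ := centralizer_coords hK hp hg
    refine ⟨v, B, hvB, ?_⟩
    rw [wU_mul hK, wU_mul hK] at hv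
    have a2 := congrArg (fun x : K × K × K => x.2.1) (wU_injective hv)
    simp [theta_zero] at a2
    exact weight_two hK (mul_right_cancel₀ hb' (by linear_combination a2))
  choose v B hg hB using hle
  classical
  have hU : ∀ g : Subgroup.centralizer {g₀}, ∃ r : K × K × K,
      (g : GR) * (if B g = 1 then 1 else g₀) = wU m r ∧ r.1 = 0 ∧
        2 * r.2.2 = t * r.2.1 := by
    intro g
    obtain ⟨r, hr⟩ : ∃ r, (g : GR) * (if B g = 1 then 1 else g₀) = wU m r := by
      have : (g : GR) * (if B g = 1 then 1 else g₀) ∈ Usub K m := by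
        rcases hB g with e | e
        · rw [if_pos e, mul_one, hg g, e, map_one, mul_one]
          exact wU_mem _
        · rw [if_neg fun e' => ReeG2Sylow.neg_one_ne_one (K := K) (e.symm.trans e'), hg g, e, hg₀,
            show wU m (v g) * hT hK (-1) * (wU m (t, u, w) * hT hK (-1)) =
              wU m (v g) * (hT hK (-1) * wU m (t, u, w) * (hT hK (-1))⁻¹) *
                (hT hK (-1) * hT hK (-1)) by group, ha, mul_one]
          exact mul_mem (wU_mem _) (hT_conj_mem hK _ (wU_mem _))
      obtain ⟨r, hr⟩ := (mem_Usub_iff hK).1 this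
      exact ⟨r, hr.symm⟩
    refine ⟨r, hr, ?_⟩
    have hc : wU m r * g₀ = g₀ * wU m r := by
      rw [← hr]
      refine Subgroup.mem_centralizer_singleton_iff.1 (mul_mem g.2 ?_)
      split_ifs
      exacts [one_mem _, Subgroup.mem_centralizer_singleton_iff.2 rfl]
    have hc2 : wU m r * wU m (t, u, w) = wU m (t, u, w) *
        (hT hK (-1) * wU m r * (hT hK (-1))⁻¹) := by
      rw [hg₀] at hc
      calc wU m r * wU m (t, u, w)
          = wU m r * (wU m (t, u, w) * hT hK (-1)) * (hT hK (-1))⁻¹ := by group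
        _ = _ := by rw [hc]; group
    rw [hT_conj, wU_mul hK, wU_mul hK] at hc2
    have a1 := congrArg (fun x : K × K × K => x.1) (wU_injective hc2)
    have a3 := congrArg (fun x : K × K × K => x.2.2) (wU_injective hc2)
    simp only [e1] at a1 a3
    have r1 : r.1 = 0 := by linear_combination (-1 : K) * a1 + r.1 * h2
    refine ⟨r1, ?_⟩
    rw [r1] at a3
    simp [theta_zero, theta_one, theta_neg] at a3
    linear_combination a3
  choose r hr hr1 hr3 using hU
  refine (Nat.card_le_card_of_injective (β := {B : Kˣ // B = 1 ∨ B = -1} × K)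
    (fun g => (⟨B g, hB g⟩, (r g).2.1)) fun g g' e => ?_).trans (le_of_eq ?_)
  · simp only [Prod.mk.injEq, Subtype.mk.injEq] at e
    obtain ⟨e1', e2'⟩ := e
    have hrr : r g = r g' := by
      refine Prod.ext ((hr1 g).trans (hr1 g').symm) (Prod.ext e2' ?_)
      have a := hr3 g
      rw [e2', ← hr3 g'] at a
      exact mul_left_cancel₀ (fun e => one_ne_zero (α := K) (by linear_combination h2 - e)) a
    refine Subtype.ext ?_
    have := hr g
    rw [hrr, ← hr g', e1'] at this
    exact mul_right_cancel this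
  · rw [Nat.card_prod, hK]
    congr 1
    have hne : (1 : Kˣ) ≠ -1 := fun e => ReeG2Sylow.neg_one_ne_one (K := K) e.symm
    exact Nat.card_eq_two_iff.2 ⟨⟨1, Or.inl rfl⟩, ⟨-1, Or.inr rfl⟩,
      fun e => hne (congrArg Subtype.val e), Set.eq_univ_iff_forall.2 fun x => by
        rcases x.2 with h | h
        · exact Or.inl (Subtype.ext h)
        · exact Or.inr (Subtype.ext h)⟩

omit hK in
theorem card_centralizer_of_isConj {g h : GR} (e : IsConj g h) :
    Nat.card (Subgroup.centralizer {h}) = Nat.card (Subgroup.centralizer {g}) := by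
  obtain ⟨c, rfl⟩ := isConj_iff.1 e
  rw [centralizer_conj, card_map_conj]

/-! ### Tori -/

/-- The torus of an element of order greater than two and prime to three. -/
theorem centralizer_cases (hm : 1 ≤ m) {x : GR} (hx2 : x * x ≠ 1) (hx3 : ¬ 3 ∣ orderOf x) :
    IsTorus (Subgroup.centralizer {x}) ∧
    (Nat.card (Subgroup.centralizer {x}) = qq m - 1 ∨
     Nat.card (Subgroup.centralizer {x}) = qq m + 1 ∨
     (IsSix (Subgroup.centralizer {x}) ∧ Nat.card (Subgroup.centralizer {x}) ∣ nA m ∧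
      ((Nat.card (Subgroup.centralizer {x}) : ℤ) = (qq m : ℤ) - 3 ^ (m + 1) + 1 ∨
       (Nat.card (Subgroup.centralizer {x}) : ℤ) = (qq m : ℤ) + 3 ^ (m + 1) + 1))) := by
  obtain ⟨ℓ, k, hℓ, h2, hd, hw⟩ := exists_prime_power hK hx2
  have hmem : x ∈ Subgroup.centralizer {x ^ k} :=
    Subgroup.mem_centralizer_singleton_iff.2 (Commute.self_pow x k).eq
  have hdG : ℓ ∣ Nat.card GR := hd.trans (orderOf_dvd_natCard x)
  have key : ∀ {T : Subgroup GR}, IsTorus T → Subgroup.centralizer {x ^ k} = T →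
      Subgroup.centralizer {x} = T := fun hT e => hT.cent x (e ▸ hmem) hx2
  rcases prime_cases hK hℓ hdG with h | h | h | h
  · exact absurd (h ▸ hd) hx3
  · obtain ⟨g, hg⟩ := exists_split hK hℓ h2 h hw
    have hT := (isTorus_range hK (m := m)).map_conj g
    rw [key hT hg]
    exact ⟨hT, Or.inl (by rw [card_map_conj, natCard_range_hT hK])⟩
  · obtain ⟨T, hT, hc, -, -, -⟩ := exists_nonsplit hK hm
    obtain ⟨g, hg⟩ := exists_conj_nonsplit hK hT hc hℓ h2 h hw
    rw [key (hT.map_conj g) hg]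
    exact ⟨hT.map_conj g, Or.inr (Or.inl (by rw [card_map_conj, hc]))⟩
  · obtain ⟨A₁, A₂, hA₁, hA₂, -, -, hc₁, hc₂, hmul, hN₁, hN₂, hall⟩ := exists_singer hK hm
    have hsix : ∀ A : Subgroup GR, IsTorus A → Nat.card A ∣ nA m → ∀ g,
        Nat.card ↥(Subgroup.normalizer (A : Set GR)) = 6 * Nat.card A →
        IsSix (A.map (MulAut.conj g).toMonoidHom) := by
      intro A hA hdA g hN
      have hT := hA.map_conj g
      refine ⟨hT.comm, fun t ht ht1 => hT.cent t ht (sq_ne_one_of_odd ht1 ?_), ?_⟩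
      · exact ((odd_nA (m := m)).of_dvd_nat hdA).of_dvd_nat
          ((Subgroup.orderOf_dvd_natCard _ ht).trans (dvd_of_eq (card_map_conj A g)))
      · rw [card_map_conj, ← hN, ← card_map_conj (Subgroup.normalizer (A : Set GR)) g,
          Subgroup.map_equiv_normalizer_eq]
    rcases hall ℓ (x ^ k) hℓ h hw with ⟨-, g, hg⟩ | ⟨-, g, hg⟩
    · rw [key (hA₁.map_conj g) hg]
      refine ⟨hA₁.map_conj g, Or.inr (Or.inr ⟨hsix A₁ hA₁ ⟨_, hmul.symm⟩ g hN₁, ?_, ?_⟩)⟩
      · rw [card_map_conj]; exact ⟨_, hmul.symm⟩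
      · rw [card_map_conj]; exact Or.inl hc₁
    · rw [key (hA₂.map_conj g) hg]
      refine ⟨hA₂.map_conj g, Or.inr (Or.inr ⟨hsix A₂ hA₂ (Dvd.intro_left _ hmul) g hN₂, ?_, ?_⟩)⟩
      · rw [card_map_conj]; exact Dvd.intro_left _ hmul
      · rw [card_map_conj]; exact Or.inr hc₂

/-- The kinds of elements. -/
theorem element_cases (hm : 1 ≤ m) {g : GR} (hg : g ≠ 1) :
    (∃ x, g = x * ReeG2Sylow.aT K m * x⁻¹) ∨
    IsConj (wU m ((0, 0, 1) : K × K × K)) g ∨
    (IsConj (wU m ((0, 1, 0) : K × K × K)) g ∨ IsConj (wU m ((0, 1, 0) : K × K × K))⁻¹ g) ∨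
    4 * Nat.card (Subgroup.centralizer {g}) ≤ qq m ^ 2 := by
  have hq := le_qq hm
  have hq2 : 27 * qq m ≤ qq m ^ 2 := by rw [pow_two]; exact Nat.mul_le_mul_right _ hq
  by_cases h2 : g * g = 1
  · obtain ⟨x, hx⟩ := isConj_aT hK hm hg h2
    exact Or.inl ⟨x, hx.symm⟩
  by_cases h3 : 3 ∣ orderOf g
  swap
  · refine Or.inr (Or.inr (Or.inr ?_))
    have hA : 3 ^ (m + 1) ≤ qq m := Nat.pow_le_pow_right (by omega) (by omega)
    have hA' : (3 : ℤ) ^ (m + 1) ≤ qq m := by exact_mod_cast hA
    have hA0 : (0 : ℤ) < 3 ^ (m + 1) := by positivity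
    rcases (centralizer_cases hK hm h2 h3).2 with e | e | ⟨-, -, e | e⟩
    · omega
    · omega
    · omega
    · omega
  obtain ⟨y, hy⟩ := conj_Bor_of_three_dvd hK h3
  have hconj : IsConj (y⁻¹ * g * y) g := isConj_iff.2 ⟨y, by group⟩
  rw [← card_centralizer_of_isConj hconj.symm] at *
  obtain ⟨p, B, hpB⟩ := (mem_Bor_iff hK).1 hy
  have ho : orderOf (y⁻¹ * g * y) = orderOf g := by
    have := orderOf_conj y⁻¹ g
    rwa [inv_inv] at this
  rcases orderOf_cases hK p B with ⟨hB, e⟩ | ⟨hB, e⟩ | ⟨-, -, e⟩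
  · rw [hB, map_one, mul_one] at hpB
    by_cases h1 : p.1 = 0
    · obtain ⟨t, b, c⟩ := p
      dsimp only at h1
      subst h1
      by_cases hb : b = 0
      · subst hb
        have hc : c ≠ 0 := fun hc => hg (by
          rw [hc] at hpB
          have e2 := congrArg (fun z => y * z * y⁻¹) (hpB.trans wU_zero)
          simpa [mul_assoc] using e2)
        exact Or.inr (Or.inl ((isConj_central hK hc).trans (hpB ▸ hconj)))
      · refine Or.inr (Or.inr (Or.inl ?_))
        rcases isConj_bType hK hb c with h | h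
        · exact Or.inl (h.trans (hpB ▸ hconj))
        · exact Or.inr (h.trans (hpB ▸ hconj))
    · refine Or.inr (Or.inr (Or.inr ?_))
      have := card_centralizer_nine hK h1
      rw [hpB]
      omega
  · rw [hB] at hpB
    rw [hB, ← hpB, ho] at e
    by_cases h : p.2.1 = theta m p.1 ^ 3 * p.1
    · rw [if_pos h] at e
      rw [e] at h3
      omega
    · refine Or.inr (Or.inr (Or.inr ?_))
      have := card_centralizer_six hK h
      rw [hpB]
      omega
  · rw [← hpB, ho] at e
    exact absurd (h3.trans e) (three_not_dvd (Or.inl rfl))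

/-- An element of a torus of even order is conjugate into the centraliser of the involution. -/
theorem exists_conj_psiT (hm : 1 ≤ m) {x : GR} (hx2 : x * x ≠ 1) (hx3 : ¬ 3 ∣ orderOf x)
    (heven : 2 ∣ Nat.card (Subgroup.centralizer {x})) :
    ∃ (g : GR) (y : SL(2, K)), (y : Matrix (Fin 2) (Fin 2) K).trace ^ 2 ≠ 4 ∧
      (g * x * g⁻¹ = psiT y ∨ g * x * g⁻¹ = ReeG2Sylow.aT K m * psiT y) := by
  haveI : Fact (Nat.Prime 2) := ⟨Nat.prime_two⟩
  obtain ⟨⟨i, hi⟩, hio⟩ := exists_prime_orderOf_dvd_card' 2 heven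
  rw [Subgroup.orderOf_mk] at hio
  have hi1 : i ≠ 1 := fun e => by rw [e, orderOf_one] at hio; omega
  have hii : i * i = 1 := by
    have := pow_orderOf_eq_one i
    rwa [hio, pow_two] at this
  obtain ⟨h, hh⟩ := isConj_aT hK hm hi1 hii
  have hmem : h⁻¹ * x * h⁻¹⁻¹ ∈ Subgroup.centralizer {ReeG2Sylow.aT K m} := by
    refine Subgroup.mem_centralizer_singleton_iff.2 ?_
    have e := Subgroup.mem_centralizer_singleton_iff.1 hi
    rw [← hh] at e
    calc h⁻¹ * x * h⁻¹⁻¹ * ReeG2Sylow.aT K m
        = h⁻¹ * (x * (h * ReeG2Sylow.aT K m * h⁻¹)) * h := by group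
      _ = h⁻¹ * (h * ReeG2Sylow.aT K m * h⁻¹ * x) * h := by rw [e]
      _ = _ := by group
  obtain ⟨y, hy⟩ := (mem_centralizer_aT hK).1 hmem
  refine ⟨h⁻¹, y, fun ht => ?_, hy⟩
  -- an element of trace `± 2` would have order dividing six
  set t := (y : Matrix (Fin 2) (Fin 2) K).trace with htdef
  have h3' : (3 : K) = 0 := by exact_mod_cast CharP.cast_eq_zero K 3
  have ht2 : t = 1 ∨ t = -1 := by
    rcases mul_eq_zero.1 (show (t - 1) * (t + 1) = 0 by linear_combination ht + (1 : K) * h3') with h | h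
    · exact Or.inl (sub_eq_zero.1 h)
    · exact Or.inr (eq_neg_of_add_eq_zero_left h)
  have hcube : y ^ 3 = 1 ∨ y ^ 3 = -1 := by
    have hC : (y : Matrix (Fin 2) (Fin 2) K) ^ 2 = t • (y : Matrix (Fin 2) (Fin 2) K) - 1 := by
      have := SL2Trace.cayley y t htdef.symm
      rw [sub_add, sub_eq_zero] at this
      rw [this]
    have hM : (y : Matrix (Fin 2) (Fin 2) K) ^ 3 = (-t) • (1 : Matrix (Fin 2) (Fin 2) K) := by
      rw [pow_succ, hC, sub_mul, smul_mul_assoc, one_mul, ← pow_two, hC]
      have ht1 : t * t = 1 := by rcases ht2 with h | h <;> rw [h] <;> ring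
      rw [smul_sub, smul_smul, ht1, one_smul, neg_smul]
      abel
    rcases ht2 with h | h
    · refine Or.inr (Subtype.ext ?_)
      rw [Matrix.SpecialLinearGroup.coe_pow, hM, h, Matrix.SpecialLinearGroup.coe_neg,
        Matrix.SpecialLinearGroup.coe_one, neg_smul, one_smul]
    · refine Or.inl (Subtype.ext ?_)
      rw [Matrix.SpecialLinearGroup.coe_pow, hM, h, neg_neg, one_smul, Matrix.SpecialLinearGroup.coe_one]
  have hψ : psiT (m := m) y ^ 3 = 1 := by
    rw [← map_pow, psiT_eq_one_iff hK]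
    exact hcube
  have h6 : (h⁻¹ * x * h⁻¹⁻¹) ^ 6 = 1 := by
    rcases hy with e | e <;> rw [e]
    · rw [show (6 : ℕ) = 3 * 2 from rfl, pow_mul, hψ, one_pow]
    · rw [(aT_comm_psiT y).mul_pow, show (6 : ℕ) = 3 * 2 from rfl, pow_mul (psiT y), hψ, one_pow,
        mul_one, mul_comm 3 2, pow_mul, pow_two, ReeG2Sylow.aT_mul_self, one_pow]
  rw [conj_pow, conj_eq_one_iff] at h6
  have hd := orderOf_dvd_of_pow_eq_one h6
  have h22 : ¬ orderOf x ∣ 2 := fun e => hx2 (by rw [← pow_two]; exact orderOf_dvd_iff_pow_eq_one.1 e)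
  have hle : orderOf x ≤ 6 := Nat.le_of_dvd (by norm_num) hd
  interval_cases orderOf x <;> omega

end CfsgLib.ReeCover
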